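import Cfsg.Agent.Lib.GW.CaseA.Local

/-!
# Case A, mixed signs: the residual configuration

`C(t) = O ⟨t, v, w⟩` with `T = O_3(C(t)) = ⟨z⟩` centralised by `v` and inverted by `w`, all other `O_q(C(t))`
inverted, and an element `e` cycling `⟨t, v⟩` with `z ↦ z c`, `c` fixed by everything in sight.
-/

set_option autoImplicit false
set_option linter.unusedSectionVars false

open Subgroup

namespace CfsgLib.GW.CaseA.Mixed

universe u

variable {G : Type u} [Group G] [Finite G]

/-- the residual configuration of mixed signs -/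
structure Residual (t v w z c e : G) : Prop where
  hA : CaseA t
  card : Nat.card (centralizer ({t} : Set G)) = 8 * Nat.card (Ocore t)
  v_invol : orderOf v = 2
  w_invol : orderOf w = 2
  v_ne : v ≠ t
  w_ne : w ≠ t
  v_comm : Commute v t
  w_comm : Commute w t
  wvw : w * v * w⁻¹ = t * v
  z_order : orderOf z = 3
  core : coreAt 3 t = zpowers z
  zv : Commute z v
  zw : w * z * w⁻¹ = z⁻¹
  inverted : ∀ q : ℕ, q.Prime → q ≠ 2 → q ≠ 3 → ∀ a : G, orderOf a = 2 → a ≠ t → Commute a t →
    ∀ x ∈ coreAt q t, a * x * a⁻¹ = x⁻¹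
  c_order : orderOf c = 3
  c_mem : c ∈ Ocore t
  cv : Commute c v
  cw : Commute c w
  cz : Commute c z
  cyc : Cyc e t v
  ez : e * z * e⁻¹ = z * c
  ec : e * c * e⁻¹ = c
  /-- `C_O(w)` is centralised by `v` -/
  fix : ∀ d ∈ Ocore t, Commute d w → Commute d v
  /-- `C_O(w)` is centralised by `z` -/
  dz : ∀ d ∈ Ocore t, Commute d w → Commute d z
  fuse_v : ∃ g : G, (∀ d ∈ Ocore t, Commute d w → Commute g d) ∧ g * t * g⁻¹ = v
  fuse_w : ∃ g : G, (∀ d ∈ Ocore t, Commute d w → Commute g d) ∧ g * t * g⁻¹ = w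

end CfsgLib.GW.CaseA.Mixed
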