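import Cfsg.Agent.Lib.GW.CaseA.Mixed.Step
import Cfsg.Agent.Lib.GW.CaseA.Mixed.Residual

/-!
# Case A, degenerate: all inverted or the residual configuration
-/

set_option autoImplicit false
set_option linter.style.haveILetI false
set_option linter.unusedSectionVars false

open Subgroup
open CfsgLib.Coprime.BenderPair CfsgLib.Block.Dihedral
open CfsgLib.Coprime (IsSylowIn)

namespace CfsgLib.GW.CaseA.Mixed

universe u

variable {G : Type u} [Group G] [Finite G]

/-- the elements of a group of order three -/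
theorem mem_zpowers_three {z y : G} (hz : orderOf z = 3) (hy : y ∈ zpowers z) : y = 1 ∨ y = z ∨ y = z⁻¹ := by
  obtain ⟨n, rfl⟩ := mem_zpowers_iff.1 hy
  rw [← zpow_mod_orderOf, hz]
  rcases (by omega : n % ((3 : ℕ) : ℤ) = 0 ∨ n % ((3 : ℕ) : ℤ) = 1 ∨ n % ((3 : ℕ) : ℤ) = 2) with h | h | h <;> rw [h]
  · exact Or.inl (zpow_zero z)
  · exact Or.inr (Or.inl (zpow_one z))
  · refine Or.inr (Or.inr (eq_inv_of_mul_eq_one_left ?_))
    rw [← zpow_add_one, show (2 : ℤ) + 1 = ((3 : ℕ) : ℤ) from rfl, zpow_natCast, ← hz, pow_orderOf_eq_one]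

theorem zpowers_eq_of_card {H : Subgroup G} {x : G} (hx : x ∈ H) (hc : Nat.card H = orderOf x) : H = zpowers x :=
  (eq_of_le_of_card_ge (zpowers_le.2 hx) (by rw [Nat.card_zpowers, hc])).symm

namespace Setup

variable {t v : G} {p : ℕ} {P : Sylow 2 G} {σ : G} {R : Subgroup G} (X : Setup t v p P σ R)
include X

/-- only `T` is centralised by a reflection -/
theorem inverted (h8 : 8 ∣ Nat.card (centralizer ({t} : Set G))) {q : ℕ} (hq : q.Prime) (hq2 : q ≠ 2) (hq3 : q ≠ 3)
    {a : G} (ha : orderOf a = 2) (hne : a ≠ t) (hc : Commute a t) : ∀ x ∈ coreAt q t, a * x * a⁻¹ = x⁻¹ := by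
  rcases sign_cases X.plus.deg hq hq2 ha hne hc with h | h
  swap
  · exact h
  by_cases h0 : coreAt q t = ⊥
  · intro x hx
    rw [h0, mem_bot] at hx
    rw [hx]
    group
  · obtain ⟨P', σ', R', X'⟩ := (⟨X.plus.hA, X.plus.deg, hq, hq2, ha, hne, hc, h, h0⟩ : Plus t a q).exists_setup h8
    exact absurd X'.prime_eq_three.1 hq3

/-- an element of `C(t)` centralising `v` centralises `T` -/
theorem four_cent (h3 : p = 3) (hT : Nat.card (coreAt p t) = 3) {g z : G} (hz : z ∈ coreAt p t)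
    (hgt : Commute g t) (hgv : Commute g v) : Commute g z := by
  haveI : Fact (Nat.Prime 2) := ⟨Nat.prime_two⟩
  rcases eq_or_ne z 1 with rfl | hz1
  · exact Commute.one_right g
  have hzo : orderOf z = 3 := by
    refine ((Nat.dvd_prime Nat.prime_three).1 (hT ▸ Subgroup.orderOf_dvd_natCard _ hz)).resolve_left fun h => hz1 ?_
    exact orderOf_eq_one_iff.1 h
  have hTz := zpowers_eq_of_card hz (hT.trans hzo.symm)
  have hconj : ∀ {x : G}, Commute x t → x * z * x⁻¹ = z ∨ x * z * x⁻¹ = z⁻¹ := fun {x} hx =>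
    (mem_zpowers_three hzo (hTz ▸ conj_mem_core hx hz)).resolve_left fun h => hz1 (conj_eq_one_iff.1 h)
  have hsq : Commute (g ^ 2) z := by
    refine mul_inv_eq_iff_eq_mul.1 ?_
    rw [show g ^ 2 * z * (g ^ 2)⁻¹ = g * (g * z * g⁻¹) * g⁻¹ by rw [sq]; group]
    rcases hconj hgt with h | h <;> rw [h]
    · exact h
    · rw [show g * z⁻¹ * g⁻¹ = (g * z * g⁻¹)⁻¹ by group, h, inv_inv]
  obtain ⟨i, m, hm, him⟩ := Nat.exists_eq_two_pow_mul_odd (orderOf_pos g).ne'
  have hgm : Commute (g ^ m) z := by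
    have h2 : ∃ j, orderOf (g ^ m) = 2 ^ j := by
      obtain ⟨j, -, hj⟩ := (Nat.dvd_prime_pow Nat.prime_two).1 (orderOf_dvd_of_pow_eq_one (x := g ^ m) (n := 2 ^ i) (by
        rw [← pow_mul, mul_comm, ← him, pow_orderOf_eq_one]))
      exact ⟨j, hj⟩
    rcases X.hG.dih.four X.ht X.plus.hv X.plus.hne.symm X.plus.hc.symm (hgt.pow_left m) (hgv.pow_left m) h2 with
      h | h | h | h <;> rw [h]
    · exact Commute.one_left z
    · exact (commute_coreAt hz).symm
    · exact (X.plus.plus z hz).symm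
    · exact (commute_coreAt hz).symm.mul_left (X.plus.plus z hz).symm
  obtain ⟨j, rfl⟩ := hm
  rw [show g = ((g ^ 2) ^ j)⁻¹ * g ^ (2 * j + 1) by rw [← pow_mul, pow_succ, inv_mul_cancel_left]]
  exact (hsq.pow_left j).inv_left.mul_left hgm

theorem residual (h8 : 8 ∣ Nat.card (centralizer ({t} : Set G))) : ∃ z c e : G, Residual t v (σ * v) z c e := by
  haveI := Fact.mk X.plus.prime
  haveI : Fact (Nat.Prime 2) := ⟨Nat.prime_two⟩
  obtain ⟨hp3, hT⟩ := X.prime_eq_three
  subst hp3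
  have hwall : ∀ q : ℕ, q.Prime → q ≠ 2 → ∀ x ∈ coreAt q t, (σ * v) * x * (σ * v)⁻¹ = x⁻¹ := by
    intro q hq hq2 x hx
    rcases eq_or_ne q 3 with rfl | hq3
    · exact X.w_inverts hx
    · exact X.inverted h8 hq hq2 hq3 X.w_invol X.w_ne X.w_comm x hx
  set Dw := Ocore t ⊓ centralizer ({σ * v} : Set G) with hDw
  -- `C_O(w)` is centralised by `v`
  have hfix : ∀ d ∈ Ocore t, Commute d (σ * v) → Commute d v := by
    intro d hd hdw
    have hle : Nat.card Dw ∣ Nat.card (Dw ⊓ centralizer ({v} : Set G) : Subgroup G) := by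
      refine (Nat.dvd_iff_prime_pow_dvd_dvd _ _).2 fun q k hq hk => ?_
      haveI := Fact.mk hq
      rcases Nat.eq_zero_or_pos k with rfl | hk0
      · exact one_dvd _
      have hq2 : q ≠ 2 := by
        rintro rfl
        exact ((odd_ocore t).of_dvd_nat (card_dvd_of_le inf_le_left)).not_two_dvd_nat
          ((dvd_pow_self 2 hk0.ne').trans hk)
      obtain ⟨U, hU, hUv⟩ := X.exists_fix_sylow (hwall q hq hq2)
      refine Dvd.dvd.trans ?_ (card_dvd_of_le (le_inf hU.1 fun y hy =>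
        mem_centralizer_singleton_iff.2 (hUv y hy).eq))
      rw [hU.2]
      exact pow_dvd_pow _ ((hq.pow_dvd_iff_le_factorization Nat.card_pos.ne').1 hk)
    have heq : Dw ⊓ centralizer ({v} : Set G) = Dw :=
      eq_of_le_of_card_ge inf_le_left (Nat.le_of_dvd Nat.card_pos hle)
    have hmem : d ∈ Dw ⊓ centralizer ({v} : Set G) := by
      rw [heq]
      exact mem_inf.2 ⟨hd, mem_centralizer_singleton_iff.2 hdw.eq⟩
    exact mem_centralizer_singleton_iff.1 (mem_inf.1 hmem).2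
  obtain ⟨⟨z, hz⟩, hzo⟩ := exists_prime_orderOf_dvd_card' (G := coreAt 3 t) 3 (by rw [hT])
  rw [Subgroup.orderOf_mk] at hzo
  have hz1 : z ≠ 1 := fun h => by rw [h, orderOf_one] at hzo; omega
  have hcore := zpowers_eq_of_card hz (hT.trans hzo.symm)
  have hdz : ∀ d ∈ Ocore t, Commute d (σ * v) → Commute d z := fun d hd hdw =>
    X.four_cent rfl hT hz (mem_centralizer_singleton_iff.1 (ocore_le t hd)) (hfix d hd hdw)
  obtain ⟨e, he, -⟩ := exists_cyc_norm X.plus X.sylow fun y hy => X.fix_v hy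
  have he3 := he.third X.plus.hv X.plus.hc.symm
  set x := e * z * e⁻¹ with hx
  have hxo : orderOf x = 3 := by rw [hx, ← MulAut.conj_apply, MulEquiv.orderOf_eq, hzo]
  have hxv : x ∈ coreAt 3 v := by
    rw [← he.1, mem_coreAt_conj, show e⁻¹ * x * e = z by rw [hx]; group]
    exact hz
  obtain ⟨f, c, hf, hf1, -, hxfc, hco, hcR, hcv, hcw, hcT, hwx⟩ := X.split hxv
    (fun h => by rw [h, orderOf_one] at hxo; omega) (hxo ▸ pow_orderOf_eq_one x)
  have hcz : Commute c z := hcT z hz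
  have hcc : c ≠ 1 := fun h => by rw [h, orderOf_one] at hco; omega
  have hc3 : c * c * c = 1 := by rw [← pow_orderOf_eq_one c, hco]; rw [pow_succ, sq]
  have hz3 : z * z * z = 1 := by rw [← pow_orderOf_eq_one z, hzo]; rw [pow_succ, sq]
  -- `T_{tv}` is generated by `w x w⁻¹ = f⁻¹ c`
  have hxtv : e * x * e⁻¹ ∈ zpowers (f⁻¹ * c) := by
    have h1 : e * x * e⁻¹ ∈ coreAt 3 (t * v) := by
      rw [← he.2, mem_coreAt_conj, show e⁻¹ * (e * x * e⁻¹) * e = x by group]
      exact hxv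
    have h2 : coreAt 3 (t * v) = zpowers (f⁻¹ * c) := by
      refine zpowers_eq_of_card ?_ ?_
      · rw [← hwx]
        exact X.w_core X.wvw hxv
      · rw [← he.2, coreAt_conj, ← Nat.card_congr (equivMapOfInjective _ _ (MulAut.conj e).injective).toEquiv,
          ← he.1, coreAt_conj, ← Nat.card_congr (equivMapOfInjective _ _ (MulAut.conj e).injective).toEquiv, hT,
          ← hwx, ← MulAut.conj_apply, MulEquiv.orderOf_eq, hxo]
    rwa [h2] at h1
  have hxe : e * x * e⁻¹ ≠ 1 := fun h => by rw [conj_eq_one_iff] at h; rw [h, orderOf_one] at hxo; omega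
  have hfco : orderOf (f⁻¹ * c) = 3 := by rw [← hwx, ← MulAut.conj_apply, MulEquiv.orderOf_eq, hxo]
  -- `c` is not in `T`'s conjugates: `e c e⁻¹ ≠ z`
  have hnz : e * c * e⁻¹ ≠ z := fun h => hcc (by
    have h1 : c ∈ coreAt 3 (t * v) := by
      have h2 : coreAt 3 (t * v) = (coreAt 3 t).map (MulAut.conj e⁻¹).toMonoidHom := by
        rw [← coreAt_conj, inv_inv]
        congr 1
        nth_rewrite 2 [← he3]
        group
      rw [h2, CaseB.mem_conj, inv_inv, h]
      exact hz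
    have h2 : c ∈ coreAt 3 v := by
      have h3 := X.w_core X.w_tv h1
      rwa [hcw.symm.eq, mul_inv_cancel_right] at h3
    rw [← he.2, mem_coreAt_conj] at h1
    rw [← he.1, mem_coreAt_conj] at h2
    have h4 := X.core_inter h2 h1
    calc c = e * (e⁻¹ * c * e) * e⁻¹ := by group
      _ = 1 := by rw [h4, mul_one, mul_inv_cancel])
  have hec2 : e * c * e⁻¹ = (e * f * e⁻¹)⁻¹ * (e * x * e⁻¹) := by rw [hxfc]; group
  have hez : e * z * e⁻¹ = z * c ∧ e * c * e⁻¹ = c := by
    rcases (mem_zpowers_three hzo (hcore ▸ hf)).resolve_left hf1 with rfl | rfl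
    · refine ⟨hxfc, ?_⟩
      rw [← hx] at hec2
      rcases (mem_zpowers_three hfco hxtv).resolve_left hxe with h | h
      · refine absurd ?_ hnz
        rw [hec2, h, hxfc]
        calc (f * c)⁻¹ * (f⁻¹ * c) = c⁻¹ * (f⁻¹ * f⁻¹) * c := by group
          _ = f⁻¹ * f⁻¹ := by rw [mul_assoc, ← ((hcz.inv_right.mul_right hcz.inv_right)).eq, inv_mul_cancel_left]
          _ = f := by
            calc f⁻¹ * f⁻¹ = f⁻¹ * f⁻¹ * (f * f * f) := by rw [hz3, mul_one]
              _ = f := by group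
      · rw [hec2, h, hxfc]
        calc (f * c)⁻¹ * (f⁻¹ * c)⁻¹ = c⁻¹ * (f⁻¹ * c⁻¹) * f := by group
          _ = c⁻¹ * c⁻¹ := by
            rw [show f⁻¹ * c⁻¹ = c⁻¹ * f⁻¹ from (hcz.symm.inv_left.inv_right).eq]
            group
          _ = c := by
            calc c⁻¹ * c⁻¹ = c⁻¹ * c⁻¹ * (c * c * c) := by rw [hc3, mul_one]
              _ = c := by group
    · exfalso
      rw [inv_inv] at hwx hxtv hfco
      have hec3 : e * c * e⁻¹ = x * (e * x * e⁻¹) := by rw [hec2, hx]; group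
      rcases (mem_zpowers_three hfco hxtv).resolve_left hxe with h | h
      · have h2 : e * c * e⁻¹ = c * c := by
          rw [hec3, h, hxfc]
          calc z⁻¹ * c * (z * c) = z⁻¹ * (c * z) * c := by group
            _ = c * c := by rw [hcz.eq]; group
        have hcube : e ^ 3 * z * (e ^ 3)⁻¹ = z⁻¹ := by
          calc e ^ 3 * z * (e ^ 3)⁻¹ = e * (e * x * e⁻¹) * e⁻¹ := by rw [hx, pow_succ, sq]; group
            _ = x * (e * c * e⁻¹) := by rw [h, hx]; group
            _ = z⁻¹ := by rw [h2, hxfc, mul_assoc, ← mul_assoc c c c, hc3, mul_one]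
        have het : Commute (e ^ 3) t := by
          refine mul_inv_eq_iff_eq_mul.1 ?_
          calc e ^ 3 * t * (e ^ 3)⁻¹ = e * (e * (e * t * e⁻¹) * e⁻¹) * e⁻¹ := by rw [pow_succ, sq]; group
            _ = t := by rw [he.1, he.2, he3]
        have hev : Commute (e ^ 3) v := by
          refine mul_inv_eq_iff_eq_mul.1 ?_
          calc e ^ 3 * v * (e ^ 3)⁻¹ = e * (e * (e * v * e⁻¹) * e⁻¹) * e⁻¹ := by rw [pow_succ, sq]; group
            _ = v := by rw [he.2, he3, he.1]
        rw [(X.four_cent rfl hT hz het hev).eq, mul_inv_cancel_right] at hcube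
        refine hz1 ?_
        calc z = z * z * z * (z * z)⁻¹ := by group
          _ = (z * z)⁻¹ := by rw [hz3, one_mul]
          _ = 1 := by nth_rewrite 1 [hcube]; rw [inv_mul_cancel, inv_one]
      · refine hnz ?_
        rw [hec3, h, hxfc]
        calc z⁻¹ * c * (z * c)⁻¹ = z⁻¹ * z⁻¹ := by group
          _ = z := by
            calc z⁻¹ * z⁻¹ = z⁻¹ * z⁻¹ * (z * z * z) := by rw [hz3, mul_one]
              _ = z := by group
  -- the fusion in `C(C_O(w))`
  have hPD : (P : Subgroup G) ≤ centralizer (Dw : Set G) := fun g hg => mem_centralizer_iff.2 fun y hy =>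
    (X.P_comm (hfix y (mem_inf.1 hy).1 (mem_centralizer_singleton_iff.1 (mem_inf.1 hy).2))
      (mem_centralizer_singleton_iff.1 (mem_inf.1 hy).2) hg).eq.symm
  obtain ⟨e', he'⟩ := X.hG.exists_cyc X.ht X.w_invol X.w_ne.symm X.w_comm.symm
  obtain ⟨k, hk, hkt⟩ := X.cent_fuse hPD (conj_mem_fix X.hG X.ht X.w_invol X.w_comm.symm he')
  rw [he'.1] at hkt
  have hkd : ∀ a ∈ Dw, Commute k a := fun a ha => (mem_centralizer_iff.1 hk a ha).symm
  have hDmem : ∀ d, d ∈ Ocore t → Commute d (σ * v) → d ∈ Dw := fun d hd hdw =>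
    mem_inf.2 ⟨hd, mem_centralizer_singleton_iff.2 hdw.eq⟩
  obtain ⟨-, -, g, hg, hgt⟩ := X.step Dw (fun h => hcc (mem_bot.1 (h ▸ hDmem c (X.sylow.1 hcR) hcw)))
    (fun a ha => hfix a (mem_inf.1 ha).1 (mem_centralizer_singleton_iff.1 (mem_inf.1 ha).2))
    (fun a ha => mem_centralizer_singleton_iff.1 (mem_inf.1 ha).2)
    (fun a ha y hy => X.four_cent rfl hT hy (mem_centralizer_singleton_iff.1 (ocore_le t (mem_inf.1 ha).1))
      (hfix a (mem_inf.1 ha).1 (mem_centralizer_singleton_iff.1 (mem_inf.1 ha).2)))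
    ⟨k, hkd, hkt⟩
  refine ⟨z, c, e, X.plus.hA, ?_, X.plus.hv, X.w_invol, X.plus.hne, X.w_ne, X.plus.hc, X.w_comm, X.wvw, hzo, hcore,
    X.plus.plus z hz, X.w_inverts hz, fun q hq hq2 hq3 a ha hne hc => X.inverted h8 hq hq2 hq3 ha hne hc, hco,
    X.sylow.1 hcR, hcv, hcw, hcz, he, hez.1, hez.2, hfix, hdz, ⟨g, fun d hd hdw => hg d (hDmem d hd hdw), hgt⟩,
    ⟨k, fun d hd hdw => hkd d (hDmem d hd hdw), hkt⟩⟩
  have h := card_centralizer X.frame X.hG (by rw [X.hσ]; exact X.ht)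
  rwa [X.hσ, show 4 * 2 = 8 from rfl] at h

end Setup

/-- **degenerate case A: all inverted, or the residual configuration** -/
theorem allInverted_or_residual {t : G} (hA : CaseA t) (h8 : 8 ∣ Nat.card (centralizer ({t} : Set G)))
    (hd : Degenerate t) : AllInverted t ∨ ∃ v w z c e : G, Residual t v w z c e := by
  refine or_iff_not_imp_left.2 fun h => ?_
  simp only [AllInverted, not_forall] at h
  obtain ⟨p, hp, hp2, a, ha, hne, hc, x, hx, hxne⟩ := h
  rcases sign_cases hd hp hp2 ha hne hc with hplus | hinv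
  swap
  · exact absurd (hinv x hx) hxne
  have hne0 : coreAt p t ≠ ⊥ := fun h0 => hxne (by
    rw [h0, mem_bot] at hx
    rw [hx]
    group)
  obtain ⟨P, σ, R, X⟩ := (⟨hA, hd, hp, hp2, ha, hne, hc, hplus, hne0⟩ : Plus t a p).exists_setup h8
  obtain ⟨z, c, e, h⟩ := X.residual h8
  exact ⟨a, _, z, c, e, h⟩

end CfsgLib.GW.CaseA.Mixed
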