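import Cfsg.Agent.Lib.GW.CaseA.Mixed.Sign
import Cfsg.Agent.Lib.GW.CaseA.AStructure
import Cfsg.Agent.Lib.GW.CaseA.Index
import Cfsg.Agent.Lib.GW.CaseA.PGroupShape
import Cfsg.Agent.Lib.Coprime.Action

/-!
# Case A, mixed signs: `h = 2` and the group `P ⊇ T × T_v`

With `v` centralising `T = O_p(C(t))` the Sylow subgroup `S` is dihedral of order eight, the other class `w`
inverts `T`, and `T`, `T_v` meet trivially inside an `S`-invariant Sylow `p`-subgroup of `O(C(t))`.
-/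

set_option autoImplicit false
set_option linter.style.haveILetI false
set_option linter.unusedSectionVars false

open Subgroup
open scoped Pointwise
open CfsgLib.Coprime.BenderPair CfsgLib.Coprime.BenderUniqueness CfsgLib.Block.Dihedral
open CfsgLib.Coprime (IsSylowIn conjBy conjBy_eq_self_iff)

namespace CfsgLib.GW.CaseA.Mixed

universe u

variable {G : Type u} [Group G] [Finite G]

/-- a Sylow subgroup of `H` inside `K ≤ H` is one of `K` -/
theorem isSylowIn_of_le {p : ℕ} [Fact p.Prime] {R K H : Subgroup G} (hR : IsSylowIn p R H) (hRK : R ≤ K)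
    (hKH : K ≤ H) : IsSylowIn p R K := by
  refine ⟨hRK, hR.2.trans (congrArg (p ^ ·) (le_antisymm ?_ ?_))⟩
  · have h1 := card_dvd_of_le hRK
    rw [hR.2] at h1
    exact ((Fact.out : p.Prime).pow_dvd_iff_le_factorization Nat.card_pos.ne').1 h1
  · exact (Nat.factorization_le_iff_dvd Nat.card_pos.ne' Nat.card_pos.ne').2 (card_dvd_of_le hKH) p

/-- the reflection may be chosen -/
theorem frame_refl {P : Sylow 2 G} {σ τ : G} {h : ℕ} (D : Frame P σ τ h) {v : G} (hv : v ∈ (P : Subgroup G))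
    (hv' : v ∉ zpowers σ) : Frame P σ v h := by
  obtain ⟨l, rfl | rfl⟩ := D.cases v hv
  · exact absurd (npow_mem_zpowers σ l) hv'
  refine ⟨D.pow2, D.memσ, hv, D.orderσ, D.refl_sq l, ?_, hv', D.card, fun x hx => ?_⟩
  · rw [← D.rel]
    group
  obtain ⟨m, rfl | rfl⟩ := D.cases x hx
  · exact ⟨m, Or.inl rfl⟩
  · obtain ⟨j, hj⟩ := (isOfFinOrder_of_finite σ).mem_powers_iff_mem_zpowers.2
      (mul_mem (inv_mem (npow_mem_zpowers σ l)) (npow_mem_zpowers σ m))
    simp only at hj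
    refine ⟨j, Or.inr ?_⟩
    rw [hj]
    group

namespace Plus

variable {t v : G} {p : ℕ} (hP : Plus t v p)
include hP

theorem norm_core : normalizer (coreAt p t : Set G) = centralizer ({t} : Set G) := by
  haveI := hP.hA.min.simple
  exact norm_eq (hP.hA.maximal t hP.hA.invol) hP.ne_bot (coreAt_le p t) (le_normalizer_opc p _)

theorem centralizer_core_le : centralizer (coreAt p t : Set G) ≤ centralizer ({t} : Set G) :=
  hP.norm_core ▸ centralizer_le_normalizer _

theorem exists_frame (h8 : 8 ∣ Nat.card (centralizer ({t} : Set G))) :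
    ∃ (P : Sylow 2 G) (σ : G) (h : ℕ), Frame P σ v h ∧ σ ^ h = t := by
  haveI : Fact (Nat.Prime 2) := ⟨Nat.prime_two⟩
  have hG := hP.hA.min
  have ht := hP.hA.invol
  have hWK := Invol.isKleinFour_closure_pair ht hP.hv hP.hne.symm hP.hc.symm
  obtain ⟨P, hWP, hPC⟩ := hG.exists_sylow_central ht
    (IsPGroup.of_card (n := 2) (by rw [hWK.card_four]; norm_num)) ((closure_le _).2 (by
      rintro x (rfl | rfl)
      · exact mem_centralizer_singleton_iff.2 rfl
      · exact mem_centralizer_singleton_iff.2 hP.hc.eq))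
  have htP : t ∈ (P : Subgroup G) := hWP (subset_closure (by simp))
  have hvP : v ∈ (P : Subgroup G) := hWP (subset_closure (by simp))
  obtain ⟨n, hn, ⟨e⟩⟩ := hG.dih P
  obtain ⟨j, hj⟩ := P.2.exists_card_eq
  have hdvd : 2 ^ 3 ∣ Nat.card (P : Subgroup G) :=
    P.pow_dvd_card_of_pow_dvd_card (h8.trans (card_subgroup_dvd_card _))
  rw [hj, Nat.pow_dvd_pow_iff_le_right one_lt_two] at hdvd
  obtain ⟨i, rfl⟩ : ∃ i, j = i + 2 := ⟨j - 2, by omega⟩
  have hn' : n = 2 * 2 ^ i := by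
    rw [Nat.card_congr e.toEquiv, DihedralGroup.nat_card, pow_add] at hj
    omega
  subst hn'
  haveI : NeZero (2 * 2 ^ i) := ⟨by positivity⟩
  set σ₀ : (P : Subgroup G) := e.symm (DihedralGroup.r 1)
  have hσo : orderOf (σ₀ : G) = 2 * 2 ^ i := by
    rw [Subgroup.orderOf_coe, MulEquiv.orderOf_eq, DihedralGroup.orderOf_r_one]
  obtain ⟨τ₀, D⟩ := Cfsg.Agent.S4481.Aux.exists_frame ⟨i, by omega, rfl⟩ e σ₀.2 hσo
  have htσ : t ∈ zpowers (σ₀ : G) := D.mem_zpowers_of_commute (l := 1) htP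
    (fun h1 => by have := Nat.le_of_dvd one_pos h1; have := D.two_le; omega)
    (by rw [pow_one]; exact (mem_centralizer_singleton_iff.1 (hPC σ₀.2) : Commute (σ₀ : G) t).symm)
  obtain ⟨m, hm⟩ := (isOfFinOrder_of_finite (σ₀ : G)).mem_powers_iff_mem_zpowers.2 htσ
  simp only at hm
  have hhm : 2 ^ i ∣ m := by
    by_contra hn
    exact (D.sq_ne_iff m).2 hn (by rw [hm]; exact Invol.invol_mul_self ht)
  have hσt : (σ₀ : G) ^ 2 ^ i = t := by
    rw [← hm]
    exact (D.eq_J (by rw [hm]; exact Invol.invol_ne_one ht) hhm).symm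
  refine ⟨P, _, _, frame_refl D hvP fun hvσ => hP.hne ?_, hσt⟩
  obtain ⟨l, hl⟩ := (isOfFinOrder_of_finite (σ₀ : G)).mem_powers_iff_mem_zpowers.2 hvσ
  simp only at hl
  rw [← hσt, ← hl]
  exact D.eq_J (by rw [hl]; exact Invol.invol_ne_one hP.hv) (by
    by_contra hn
    exact (D.sq_ne_iff l).2 hn (by rw [hl]; exact Invol.invol_mul_self hP.hv))

end Plus

/-- the frame and the invariant Sylow `p`-subgroup of `O(C(t))` -/
structure Setup (t v : G) (p : ℕ) (P : Sylow 2 G) (σ : G) (R : Subgroup G) : Prop where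
  plus : Plus t v p
  frame : Frame P σ v 2
  hσ : σ ^ 2 = t
  sylow : IsSylowIn p R (Ocore t)
  core_le : coreAt p t ≤ R
  norm : (P : Subgroup G) ≤ normalizer (R : Set G)

theorem cent_fixed {t v : G} {p : ℕ} (hP : Plus t v p) {R : Subgroup G} (hTR : coreAt p t ≤ R) :
    centralizer (R : Set G) ≤ centralizer ({t} : Set G) :=
  (centralizer_le hTR).trans hP.centralizer_core_le

theorem exists_cyc_norm {t v : G} {p : ℕ} (hP : Plus t v p) {R : Subgroup G} (hR : IsSylowIn p R (Ocore t))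
    (hRv : ∀ x ∈ R, Commute x v) : ∃ e : G, Cyc e t v ∧ e ∈ normalizer (R : Set G) := by
  haveI := Fact.mk hP.prime
  obtain ⟨e, he⟩ := hP.hA.min.exists_cyc hP.hA.invol hP.hv hP.hne.symm hP.hc.symm
  set D := Ocore t ⊓ centralizer ({v} : Set G)
  have hRD : IsSylowIn p R D :=
    isSylowIn_of_le hR (le_inf hR.1 fun x hx => mem_centralizer_singleton_iff.2 (hRv x hx).eq) inf_le_left
  obtain ⟨d, hd, hde⟩ := hRD.exists_conj (hRD.conjBy (conj_mem_fix hP.hA.min hP.hA.invol hP.hv hP.hc.symm he))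
  refine ⟨d⁻¹ * e, he.of_left (mem_centralizer_singleton_iff.1 (ocore_le t (inv_mem (mem_inf.1 hd).1)))
    (mem_centralizer_singleton_iff.1 (mem_inf.1 (inv_mem hd)).2), ?_⟩
  rw [← conjBy_eq_self_iff, ← CfsgLib.Coprime.conjBy_conjBy, ← hde, CfsgLib.Coprime.conjBy_conjBy, inv_mul_cancel,
    CfsgLib.Coprime.conjBy_one]

theorem Plus.exists_setup {t v : G} {p : ℕ} (hP : Plus t v p) (h8 : 8 ∣ Nat.card (centralizer ({t} : Set G))) :
    ∃ P σ R, Setup t v p P σ R := by
  haveI := Fact.mk hP.prime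
  haveI : Fact (Nat.Prime 2) := ⟨Nat.prime_two⟩
  obtain ⟨P, σ, h, D, hσ⟩ := hP.exists_frame h8
  have hPC : ∀ x ∈ (P : Subgroup G), Commute x t := fun x hx => hσ ▸ D.J_comm hx
  have hPO : (P : Subgroup G) ≤ normalizer (Ocore t : Set G) := fun x hx =>
    centralizer_le_normalizer_ocore t (mem_centralizer_singleton_iff.2 (hPC x hx).eq)
  obtain ⟨R, hR, hTR, hRN⟩ := CfsgLib.Coprime.le_invariant_sylow (p := p) hPO
    (by
      obtain ⟨k, hk⟩ := P.2.exists_card_eq
      rw [hk]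
      exact Nat.Coprime.pow_left k (Nat.coprime_two_left.2 (odd_ocore t)))
    (Or.inl (by haveI := P.2.isNilpotent; infer_instance))
    (coreAt_le_ocore hP.odd t) (isPGroup_coreAt p t)
    (fun x hx => mem_normalizer_coreAt (hPC x hx))
  set v' := σ * v * σ⁻¹ with hv'
  have hv'P : v' ∈ (P : Subgroup G) := mul_mem (mul_mem D.memσ D.memτ) (inv_mem D.memσ)
  have hv'o : orderOf v' = 2 := by rw [hv', ← MulAut.conj_apply, MulEquiv.orderOf_eq, hP.hv]
  have hσt : Commute σ t := hPC σ D.memσ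
  have hv'ne : v' ≠ t := fun e => hP.hne (by
    calc v = σ⁻¹ * v' * σ := by rw [hv']; group
      _ = t := by rw [e, mul_assoc, ← hσt.eq, inv_mul_cancel_left])
  have hplus' : ∀ x ∈ coreAt p t, Commute x v' := fun x hx => by
    refine commute_mul_conj_inv (hP.plus _ ?_)
    have := conj_mem_core hσt.inv_left hx
    rwa [inv_inv] at this
  have hRv : ∀ x ∈ R, Commute x v := fun x hx => hP.commute_fix hR.isPGroup hR.1 (hRN D.memτ) hx
  have hRv' : ∀ x ∈ R, Commute x v' := fun x hx =>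
    commute_of_plus hP.deg hv'o hv'ne (hPC v' hv'P) hplus' hR.isPGroup hR.1 (hRN hv'P) hx
  obtain ⟨e, he, heR⟩ := exists_cyc_norm hP hR hRv
  have h2 : h = 2 := by
    have hc : Commute (e⁻¹ * v' * e) t := by
      refine mem_centralizer_singleton_iff.1 (cent_fixed hP hTR (mem_centralizer_iff.2 fun x hx => ?_))
      have h1 := hRv' _ ((mem_normalizer_iff.1 heR x).1 hx)
      calc x * (e⁻¹ * v' * e) = e⁻¹ * ((e * x * e⁻¹) * v') * e := by group
        _ = e⁻¹ * v' * e * x := by rw [h1.eq]; group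
    have hc' : Commute v' v := by
      have h := hc.map (MulAut.conj e).toMonoidHom
      simp only [MulEquiv.coe_toMonoidHom, MulAut.conj_apply] at h
      rwa [he.1, show e * (e⁻¹ * v' * e) * e⁻¹ = v' by group] at h
    have hvv := Invol.invol_mul_self hP.hv
    have hrel : v * σ⁻¹ = σ * v := by
      calc v * σ⁻¹ = v * v * σ * v⁻¹ := by rw [← D.rel]; group
        _ = σ * v := by rw [hvv, one_mul, D.τ_inv]
    have e1 : v' = σ ^ 2 * v := by rw [hv', mul_assoc, hrel, sq, mul_assoc]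
    rw [e1] at hc'
    have e2 : σ ^ 2 = v * σ ^ 2 * v := by
      have h := hc'.eq
      rw [mul_assoc, hvv, mul_one, ← mul_assoc] at h
      exact h
    have e3 : σ ^ 2 * σ ^ 2 = 1 := by
      nth_rewrite 1 [e2]
      nth_rewrite 2 [← D.τ_inv]
      rw [D.conjτ, inv_mul_cancel]
    have h4 : h ∣ 2 := by
      by_contra hn
      exact (D.sq_ne_iff 2).2 hn e3
    exact le_antisymm (Nat.le_of_dvd two_pos h4) D.two_le
  subst h2
  exact ⟨P, σ, R, hP, D, hσ, hR, hTR, hRN⟩

namespace Setup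

variable {t v : G} {p : ℕ} {P : Sylow 2 G} {σ : G} {R : Subgroup G} (X : Setup t v p P σ R)
include X

theorem hG : Min G := X.plus.hA.min

theorem ht : orderOf t = 2 := X.plus.hA.invol

theorem comm_t {x : G} (hx : x ∈ (P : Subgroup G)) : Commute x t := X.hσ ▸ X.frame.J_comm hx

theorem sigma_comm : Commute σ t := X.comm_t X.frame.memσ

local notation "w" => σ * v

theorem w_mem : w ∈ (P : Subgroup G) := mul_mem X.frame.memσ X.frame.memτ

theorem w_comm : Commute w t := X.comm_t X.w_mem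

theorem v_sigma : v * σ * v = σ⁻¹ := by
  nth_rewrite 2 [← X.frame.τ_inv]
  exact X.frame.rel

theorem w_sq : w * w = 1 := by
  rw [show σ * v * (σ * v) = σ * (v * σ * v) by group, X.v_sigma, mul_inv_cancel]

theorem w_not : w ∉ zpowers σ := fun h => X.frame.not_zpow ((mul_mem_cancel_left (mem_zpowers σ)).1 h)

theorem w_invol : orderOf w = 2 := by
  haveI : Fact (Nat.Prime 2) := ⟨Nat.prime_two⟩
  exact orderOf_eq_prime (by rw [sq]; exact X.w_sq) fun e => X.w_not (e ▸ one_mem _)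

theorem w_inv : (w)⁻¹ = w := inv_eq_of_mul_eq_one_right X.w_sq

theorem w_ne : w ≠ t := fun e => X.w_not (by rw [e, ← X.hσ]; exact npow_mem_zpowers σ 2)

theorem wvw : w * v * (w)⁻¹ = t * v := by
  have h : v * σ⁻¹ = σ * v := by
    calc v * σ⁻¹ = v * v * σ * v⁻¹ := by rw [← X.frame.rel]; group
      _ = σ * v := by rw [Invol.invol_mul_self X.plus.hv, one_mul, X.frame.τ_inv]
  calc σ * v * v * (σ * v)⁻¹ = σ * (v * v) * (v⁻¹ * σ⁻¹) := by group
    _ = σ * (v * σ⁻¹) := by rw [Invol.invol_mul_self X.plus.hv, Invol.invol_inv X.plus.hv, mul_one]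
    _ = t * v := by rw [h, ← mul_assoc, ← sq, X.hσ]

theorem w_tv : w * (t * v) * (w)⁻¹ = v := by
  have h : w * (t * v) * (w)⁻¹ = w * t * (w)⁻¹ * (w * v * (w)⁻¹) := by group
  rw [h, X.wvw, X.w_comm.eq, mul_inv_cancel_right, ← mul_assoc, Invol.invol_mul_self X.ht, one_mul]

theorem fix_v {x : G} (hx : x ∈ R) : Commute x v :=
  haveI := Fact.mk X.plus.prime
  X.plus.commute_fix X.sylow.isPGroup X.sylow.1 (X.norm X.frame.memτ) hx

theorem mem_R_comm {x : G} (hx : x ∈ R) : Commute x t :=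
  mem_centralizer_singleton_iff.1 (ocore_le t (X.sylow.1 hx))

/-- `C(R)` centralises `v` -/
theorem cent_R {x : G} (hx : ∀ y ∈ R, Commute y x) : Commute x v := by
  obtain ⟨e, he, heR⟩ := exists_cyc_norm X.plus X.sylow fun y hy => X.fix_v hy
  have hc : Commute (e⁻¹ * x * e) t := by
    refine mem_centralizer_singleton_iff.1 (cent_fixed X.plus X.core_le (mem_centralizer_iff.2 fun y hy => ?_))
    have h1 := hx _ ((mem_normalizer_iff.1 heR y).1 hy)
    calc y * (e⁻¹ * x * e) = e⁻¹ * ((e * y * e⁻¹) * x) * e := by group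
      _ = e⁻¹ * x * e * y := by rw [h1.eq]; group
  have h := hc.map (MulAut.conj e).toMonoidHom
  simp only [MulEquiv.coe_toMonoidHom, MulAut.conj_apply] at h
  rwa [he.1, show e * (e⁻¹ * x * e) * e⁻¹ = x by group] at h

/-- the other class inverts `T` -/
theorem w_inverts {x : G} (hx : x ∈ coreAt p t) : w * x * (w)⁻¹ = x⁻¹ := by
  haveI := Fact.mk X.plus.prime
  refine (sign_cases X.plus.deg X.plus.prime X.plus.odd X.w_invol X.w_ne X.w_comm).resolve_left (fun h => ?_) x hx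
  have h1 : Commute w v := X.cent_R fun y hy =>
    commute_of_plus X.plus.deg X.w_invol X.w_ne X.w_comm h X.sylow.isPGroup X.sylow.1 (X.norm X.w_mem) hy
  have h2 := X.wvw
  rw [h1.eq, mul_inv_cancel_right] at h2
  exact Invol.invol_ne_one X.ht (mul_eq_right.1 h2.symm)

theorem core_comm {x y : G} (hx : x ∈ coreAt p t) (hy : y ∈ coreAt p t) : Commute x y := by
  have e : w * (x * y) * (w)⁻¹ = (w * x * (w)⁻¹) * (w * y * (w)⁻¹) := by group
  rw [X.w_inverts hx, X.w_inverts hy, X.w_inverts (mul_mem hx hy), mul_inv_rev] at e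
  show x * y = y * x
  calc x * y = (y⁻¹ * x⁻¹)⁻¹ := by group
    _ = (x⁻¹ * y⁻¹)⁻¹ := by rw [e]
    _ = y * x := by group

/-- `T_v ≤ R` -/
theorem core_v_le : coreAt p v ≤ R := by
  obtain ⟨e, he, heR⟩ := exists_cyc_norm X.plus X.sylow fun y hy => X.fix_v hy
  rw [← he.1, coreAt_conj]
  rintro _ ⟨y, hy, rfl⟩
  exact (mem_normalizer_iff.1 heR y).1 (X.core_le hy)

/-- conjugating a core by `w` -/
theorem w_core {u u' x : G} (h : w * u * (w)⁻¹ = u') (hx : x ∈ coreAt p u) : w * x * (w)⁻¹ ∈ coreAt p u' := by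
  rw [← h, mem_coreAt_conj]
  simpa [mul_assoc] using hx

theorem meet_tv {x : G} (hx : x ∈ coreAt p t) (hxv : x ∈ coreAt p v) : x ∈ coreAt p (t * v) := by
  have h1 := X.w_core X.wvw hxv
  rw [X.w_inverts hx] at h1
  exact inv_mem_iff.1 h1

theorem meet_v {x : G} (hx : x ∈ coreAt p t) (hxv : x ∈ coreAt p (t * v)) : x ∈ coreAt p v := by
  have h1 := X.w_core X.w_tv hxv
  rw [X.w_inverts hx] at h1
  exact inv_mem_iff.1 h1

/-- **`T ∩ T_v = 1`** -/
theorem core_inter {x : G} (hx : x ∈ coreAt p t) (hxv : x ∈ coreAt p v) : x = 1 := by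
  haveI := Fact.mk X.plus.prime
  haveI : Fact (Nat.Prime 2) := ⟨Nat.prime_two⟩
  haveI := X.hG.simple
  set J := coreAt p t ⊓ coreAt p v with hJ
  suffices h : J = ⊥ from mem_bot.1 (h ▸ (⟨hx, hxv⟩ : x ∈ J))
  by_contra hne
  obtain ⟨e, he, -⟩ := exists_cyc_norm X.plus X.sylow fun y hy => X.fix_v hy
  have hOJ : ∀ o ∈ Ocore t, ∀ y ∈ J, o * y * o⁻¹ ∈ J := by
    intro o ho y hy
    have hot : Commute o t := mem_centralizer_singleton_iff.1 (ocore_le t ho)
    set c := o * v * o⁻¹ * v⁻¹ with hc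
    have hcO : c ∈ Ocore t := CaseB.commutator_mem
      (centralizer_le_normalizer_ocore t (mem_centralizer_singleton_iff.2 X.plus.hc.eq)) ho
    obtain ⟨i, hi⟩ := CaseB.orderOf_odd_of_mem (odd_ocore t) hcO
    set f := c ^ (i + 1) with hf
    have hf2 : f * f = c := by
      rw [hf, ← pow_add, show i + 1 + (i + 1) = orderOf c + 1 by omega, pow_succ, pow_orderOf_eq_one, one_mul]
    have hfv : f * v * f⁻¹ = o * v * o⁻¹ := by
      have hinv : v * f * v⁻¹ = f⁻¹ := by rw [hf, ← conj_pow, hc, CaseB.cmt_inverted X.plus.hv, inv_pow]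
      have hinv' : v * f⁻¹ * v⁻¹ = f := by rw [← conj_inv, hinv, inv_inv]
      calc f * v * f⁻¹ = f * (v * f⁻¹ * v⁻¹) * v := by group
        _ = c * v := by rw [hinv', hf2]
        _ = o * v * o⁻¹ := by rw [hc, inv_mul_cancel_right]
    have h1 : o * y * o⁻¹ ∈ coreAt p t := conj_mem_core hot hy.1
    have h2 : o * y * o⁻¹ ∈ coreAt p (f * v * f⁻¹) := by
      rw [hfv, mem_coreAt_conj, show o⁻¹ * (o * y * o⁻¹) * o = y by group]
      exact hy.2
    rw [mem_coreAt_conj] at h2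
    have hcomm : Commute (o * y * o⁻¹) f :=
      (commute_cmt X.plus.deg X.plus.hv X.plus.hne X.plus.hc hot X.plus.prime X.plus.odd h1).pow_right _
    rw [mul_assoc f⁻¹, hcomm.eq, inv_mul_cancel_left] at h2
    exact ⟨h1, h2⟩
  have hsJ : ∀ l : ℕ, ∀ y ∈ J, σ ^ l * y * (σ ^ l)⁻¹ ∈ J := by
    intro l
    induction l with
    | zero => intro y hy; simpa using hy
    | succ l ih =>
      intro y hy
      rw [show σ ^ (l + 1) * y * (σ ^ (l + 1))⁻¹ = σ ^ l * (σ * y * σ⁻¹) * (σ ^ l)⁻¹ by rw [pow_succ]; group]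
      refine ih _ ⟨conj_mem_core X.sigma_comm hy.1, X.meet_v (conj_mem_core X.sigma_comm hy.1) ?_⟩
      have h : σ * v * σ⁻¹ = t * v := by
        rw [← X.wvw]
        calc σ * v * σ⁻¹ = σ * v * (v * v⁻¹) * σ⁻¹ := by group
          _ = σ * v * v * (σ * v)⁻¹ := by group
      rw [← h, mem_coreAt_conj, show σ⁻¹ * (σ * y * σ⁻¹) * σ = y by group]
      exact hy.2
  have hvJ : ∀ y ∈ J, v * y * v⁻¹ ∈ J := fun y hy =>
    ⟨conj_mem_core X.plus.hc hy.1, conj_mem_core (Commute.refl v) hy.2⟩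
  have hPJ : (P : Subgroup G) ≤ normalizer (J : Set G) := le_normalizer_of_conj_mem fun g hg y hy => by
    obtain ⟨l, rfl | rfl⟩ := X.frame.cases g hg
    · exact hsJ l y hy
    · rw [show v * σ ^ l * y * (v * σ ^ l)⁻¹ = v * (σ ^ l * y * (σ ^ l)⁻¹) * v⁻¹ by group]
      exact hvJ _ (hsJ l y hy)
  have hPC : (P : Subgroup G) ≤ centralizer ({t} : Set G) := fun x hx =>
    mem_centralizer_singleton_iff.2 (X.comm_t hx).eq
  have hsup := X.hG.ocore_sup_sylow X.ht (P.subtype hPC)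
  rw [Sylow.coe_subtype, map_subgroupOf_eq_of_le hPC] at hsup
  have hCJ : centralizer ({t} : Set G) ≤ normalizer (J : Set G) :=
    hsup ▸ sup_le (le_normalizer_of_conj_mem hOJ) hPJ
  have hN : normalizer (J : Set G) = centralizer ({t} : Set G) :=
    norm_eq (X.plus.hA.maximal t X.ht) hne (inf_le_left.trans (coreAt_le p t)) hCJ
  have heJ : e ∈ normalizer (J : Set G) := by
    refine zpowers_le.1 (le_normalizer_of_conj_mem (N := zpowers e) fun g hg y hy => ?_)
    obtain ⟨n, rfl⟩ := (isOfFinOrder_of_finite e).mem_powers_iff_mem_zpowers.2 hg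
    simp only
    clear hg
    induction n generalizing y with
    | zero => simpa using hy
    | succ n ih =>
      rw [show e ^ (n + 1) * y * (e ^ (n + 1))⁻¹ = e ^ n * (e * y * e⁻¹) * (e ^ n)⁻¹ by rw [pow_succ]; group]
      refine ih _ ⟨?_, ?_⟩
      · have h3 : e * (t * v) * e⁻¹ = t := he.third X.plus.hv X.plus.hc.symm
        have h4 := X.meet_tv hy.1 hy.2
        show e * y * e⁻¹ ∈ coreAt p t
        rw [← h3, mem_coreAt_conj, show e⁻¹ * (e * y * e⁻¹) * e = y by group]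
        exact h4
      · show e * y * e⁻¹ ∈ coreAt p v
        rw [← he.1, mem_coreAt_conj, show e⁻¹ * (e * y * e⁻¹) * e = y by group]
        exact hy.1
  have het : Commute e t := mem_centralizer_singleton_iff.1 (hN ▸ heJ)
  have h1 := he.1
  rw [het.eq, mul_inv_cancel_right] at h1
  exact X.plus.hne h1.symm

/-- a non-trivial element of `T_v` of order `p` and its part `c` centralised by `S` -/
theorem split {x : G} (hx : x ∈ coreAt p v) (hx1 : x ≠ 1) (hxp : x ^ p = 1) :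
    ∃ f c : G, f ∈ coreAt p t ∧ f ≠ 1 ∧ f ^ p = 1 ∧ x = f * c ∧ orderOf c = p ∧ c ∈ R ∧ Commute c v ∧
      Commute c w ∧ (∀ y ∈ coreAt p t, Commute c y) ∧ w * x * (w)⁻¹ = f⁻¹ * c := by
  haveI := Fact.mk X.plus.prime
  have hxR := X.core_v_le hx
  set k := x * w * x⁻¹ * (w)⁻¹ with hk
  have hkT : k ∈ coreAt p t :=
    cmt_mem_core X.plus.deg X.w_invol X.w_ne X.w_comm X.sylow.isPGroup X.sylow.1 (X.norm X.w_mem) hxR
  obtain ⟨i, hi⟩ := orderOf_odd X.plus.odd (isPGroup_coreAt p t) hkT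
  set f := k ^ (i + 1) with hf
  have hfT : f ∈ coreAt p t := pow_mem hkT _
  have hf2 : f * f = k := by
    rw [hf, ← pow_add, show i + 1 + (i + 1) = orderOf k + 1 by omega, pow_succ, pow_orderOf_eq_one, one_mul]
  set c := f⁻¹ * x with hc
  have hcR : c ∈ R := mul_mem (inv_mem (X.core_le hfT)) hxR
  have hwx : w * x * (w)⁻¹ = k⁻¹ * x := by rw [hk]; group
  have hcw : Commute c w := by
    refine (mul_inv_eq_iff_eq_mul.1 ?_ : w * c = c * w).symm
    calc w * c * (w)⁻¹ = (w * f * (w)⁻¹)⁻¹ * (w * x * (w)⁻¹) := by rw [hc]; group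
      _ = f * (k⁻¹ * x) := by rw [X.w_inverts hfT, inv_inv, hwx]
      _ = c := by rw [← hf2, hc]; group
  have hTR : R ≤ normalizer (coreAt p t : Set G) := fun y hy => mem_normalizer_coreAt (X.mem_R_comm hy)
  have hvR : R ≤ normalizer (coreAt p v : Set G) := fun y hy => mem_normalizer_coreAt (X.fix_v hy)
  have hTx : ∀ y ∈ coreAt p t, Commute x y := fun y hy =>
    (CaseB.commute_of_disjoint (Subgroup.disjoint_def.2 fun h1 h2 => X.core_inter h1 h2) hy hx
      (hvR (X.core_le hy)) (hTR hxR)).symm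
  have hcT : ∀ y ∈ coreAt p t, Commute c y := fun y hy =>
    (X.core_comm hfT hy).inv_left.mul_left (hTx y hy)
  have hfc : x = f * c := by rw [hc, mul_inv_cancel_left]
  have hfcc : Commute f c := (hcT f hfT).symm
  have hp1 : f ^ p * c ^ p = 1 := by rw [← hfcc.mul_pow, ← hfc, hxp]
  have hcp : c ^ p = 1 := by
    have hmem : c ^ p ∈ coreAt p t := by
      rw [eq_inv_of_mul_eq_one_right hp1]
      exact inv_mem (pow_mem hfT p)
    exact CaseB.eq_one_of_inv_fix (X.w_inverts hmem) (hcw.pow_left p).symm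
      (orderOf_odd X.plus.odd (isPGroup_coreAt p t) hmem)
  have hfp : f ^ p = 1 := by rw [hcp, mul_one] at hp1; exact hp1
  have hc1 : c ≠ 1 := fun e => hx1 (X.core_inter (by rw [hfc, e, mul_one]; exact hfT) hx)
  have hwx' : w * x * (w)⁻¹ = f⁻¹ * c := by rw [hwx, ← hf2, hfc]; group
  refine ⟨f, c, hfT, fun e => hx1 ?_, hfp, hfc, orderOf_eq_prime hcp hc1, hcR, X.fix_v hcR, hcw, hcT, hwx'⟩
  -- `x` would lie in `T_v ∩ T_tv`
  obtain ⟨g, hg, -⟩ := exists_cyc_norm X.plus X.sylow fun y hy => X.fix_v hy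
  have hxw : x ∈ coreAt p (t * v) := by
    have h := X.w_core X.wvw hx
    rwa [hwx', e, inv_one, one_mul, show c = x by rw [hfc, e, one_mul]] at h
  rw [← hg.2, mem_coreAt_conj] at hxw
  rw [← hg.1, mem_coreAt_conj] at hx
  have h := X.core_inter hx hxw
  calc x = g * (g⁻¹ * x * g) * g⁻¹ := by group
    _ = 1 := by rw [h, mul_one, mul_inv_cancel]

end Setup

end CfsgLib.GW.CaseA.Mixed
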