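import Cfsg.Agent.Lib.GW.CaseA.Local

/-!
# Case A, mixed signs: the action of the reflections on the cores

In the degenerate case every involution `a` of `C(t)` acts by a sign on each `O_q(C(t))`.  If `a` centralises
`O_p(C(t))` it centralises every `p`-subgroup of `O(C(t))` that it normalises, and with `t` every `p`-subgroup
of `G` that both normalise.
-/

set_option autoImplicit false
set_option linter.style.haveILetI false
set_option linter.unusedSectionVars false

open Subgroup
open CfsgLib.Coprime.BenderPair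

namespace CfsgLib.GW.CaseA.Mixed

universe u

variable {G : Type u} [Group G] [Finite G]

theorem conj_mem_core {p : ℕ} {t g y : G} (hg : Commute g t) (hy : y ∈ coreAt p t) : g * y * g⁻¹ ∈ coreAt p t :=
  (mem_normalizer_iff.1 (mem_normalizer_coreAt hg) y).1 hy

theorem commute_mul_conj_inv {a o y : G} (h : Commute (o⁻¹ * y * o) a) : Commute y (o * a * o⁻¹) := by
  have h' := h.map (MulAut.conj o).toMonoidHom
  simpa [mul_assoc] using h'

/-- degenerate: fixed point free means inverted -/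
theorem sign_cases {t : G} (hd : Degenerate t) {q : ℕ} (hq : q.Prime) (hq2 : q ≠ 2) {a : G} (ha : orderOf a = 2)
    (hne : a ≠ t) (hc : Commute a t) :
    (∀ x ∈ coreAt q t, Commute x a) ∨ ∀ x ∈ coreAt q t, a * x * a⁻¹ = x⁻¹ := by
  haveI := Fact.mk hq
  refine (hd q hq hq2 a ha hne hc).imp_right fun h x hx => ?_
  exact eq_inv_of_mul_eq_one_left (mem_bot.1 (CaseB.inverts_mod
    (CaseB.odd_card_of_pGroup hq2 (isPGroup_coreAt q t)) ha (mem_normalizer_coreAt hc)
    (fun z hz hza => mem_bot.2 (h z hz hza)) hx (by rw [normalizer_eq_top]; exact mem_top x)))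

/-- a commutator of `O(C(t))` with a reflection centralises every core -/
theorem commute_cmt {t : G} (hd : Degenerate t) {a : G} (ha : orderOf a = 2) (hne : a ≠ t) (hc : Commute a t)
    {o : G} (ho : Commute o t) {q : ℕ} (hq : q.Prime) (hq2 : q ≠ 2) {y : G} (hy : y ∈ coreAt q t) :
    Commute y (o * a * o⁻¹ * a⁻¹) := by
  have hy' : o⁻¹ * y * o ∈ coreAt q t := by
    have := conj_mem_core ho.inv_left hy
    rwa [inv_inv] at this
  rcases sign_cases hd hq hq2 ha hne hc with h | h
  · exact (commute_mul_conj_inv (h _ hy')).mul_right (h y hy).inv_right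
  · have h1 := h _ hy'
    have h2 := h y hy
    have h3 : o * a * o⁻¹ * y * (o * a * o⁻¹)⁻¹ = y⁻¹ := by
      calc o * a * o⁻¹ * y * (o * a * o⁻¹)⁻¹ = o * (a * (o⁻¹ * y * o) * a⁻¹) * o⁻¹ := by group
        _ = y⁻¹ := by rw [h1]; group
    refine ((mul_inv_eq_iff_eq_mul.1 ?_ : o * a * o⁻¹ * a⁻¹ * y = y * (o * a * o⁻¹ * a⁻¹))).symm
    have h2' : a⁻¹ * y * a = y⁻¹ := by
      rw [Invol.invol_inv ha]
      nth_rewrite 2 [← Invol.invol_inv ha]
      exact h2
    calc o * a * o⁻¹ * a⁻¹ * y * (o * a * o⁻¹ * a⁻¹)⁻¹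
        = o * a * o⁻¹ * (a⁻¹ * y * a) * (o * a * o⁻¹)⁻¹ := by group
      _ = (o * a * o⁻¹ * y * (o * a * o⁻¹)⁻¹)⁻¹ := by rw [h2']; group
      _ = y := by rw [h3, inv_inv]

/-- such a commutator of `p`-power order lies in `O_p(C(t))` -/
theorem cmt_mem_core {t : G} (hd : Degenerate t) {a : G} (ha : orderOf a = 2) (hne : a ≠ t) (hc : Commute a t)
    {p : ℕ} [Fact p.Prime] {R : Subgroup G} (hR : IsPGroup p R) (hRO : R ≤ Ocore t)
    (haR : a ∈ normalizer (R : Set G)) {o : G} (ho : o ∈ R) : o * a * o⁻¹ * a⁻¹ ∈ coreAt p t := by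
  have hmem : o * a * o⁻¹ * a⁻¹ ∈ R := CaseB.commutator_mem haR ho
  refine mem_coreAt_of_commute (hRO hmem) ?_ fun q hq hq2 y hy => commute_cmt hd ha hne hc
    (mem_centralizer_singleton_iff.1 (ocore_le t (hRO ho))) hq hq2 hy
  obtain ⟨k, hk⟩ := IsPGroup.iff_orderOf.1 hR ⟨_, hmem⟩
  exact ⟨k, by rwa [Subgroup.orderOf_mk] at hk⟩

/-- an involution centralising `O_p(C(t))` centralises the `p`-subgroups of `O(C(t))` it normalises -/
theorem commute_of_plus {t : G} (hd : Degenerate t) {a : G} (ha : orderOf a = 2) (hne : a ≠ t) (hc : Commute a t)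
    {p : ℕ} [Fact p.Prime] (hplus : ∀ x ∈ coreAt p t, Commute x a) {R : Subgroup G} (hR : IsPGroup p R)
    (hRO : R ≤ Ocore t) (haR : a ∈ normalizer (R : Set G)) {o : G} (ho : o ∈ R) : Commute o a := by
  refine CaseB.commute_of_cmt_eq_one ?_
  exact CaseB.eq_one_of_inv_fix (CaseB.cmt_inverted ha)
    (hplus _ (cmt_mem_core hd ha hne hc hR hRO haR ho)).symm
    (CaseB.orderOf_odd_of_mem (odd_ocore t) (hRO (CaseB.commutator_mem haR ho)))

/-- an element cycling `⟨t, a⟩` normalises `O(C(t)) ∩ C(a)` -/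
theorem conj_mem_fix (hG : Min G) {t a e : G} (ht : orderOf t = 2) (ha : orderOf a = 2) (hc : Commute t a)
    (he : Cyc e t a) : e ∈ normalizer ((Ocore t ⊓ centralizer ({a} : Set G) : Subgroup G) : Set G) := by
  have key : ∀ x ∈ Ocore t ⊓ centralizer ({a} : Set G), e * x * e⁻¹ ∈ Ocore t ⊓ centralizer ({a} : Set G) := by
    intro x hx
    obtain ⟨hxO, hxa⟩ := mem_inf.1 hx
    have hxt : Commute x t := mem_centralizer_singleton_iff.1 (ocore_le t hxO)
    have hxa' : Commute x a := mem_centralizer_singleton_iff.1 hxa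
    have h1 : Commute (e * x * e⁻¹) t := by
      have h := (hxt.mul_right hxa').map (MulAut.conj e).toMonoidHom
      simp only [MulEquiv.coe_toMonoidHom, MulAut.conj_apply] at h
      rwa [he.third ha hc] at h
    have h2 : Commute (e * x * e⁻¹) a := by
      have h := hxt.map (MulAut.conj e).toMonoidHom
      simp only [MulEquiv.coe_toMonoidHom, MulAut.conj_apply] at h
      rwa [he.1] at h
    refine mem_inf.2 ⟨mem_ocore hG ht h1 ?_, mem_centralizer_singleton_iff.2 h2.eq⟩
    rw [← MulAut.conj_apply, MulEquiv.orderOf_eq]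
    exact CaseB.orderOf_odd_of_mem (odd_ocore t) hxO
  have hle : (Ocore t ⊓ centralizer ({a} : Set G) : Subgroup G).map (MulAut.conj e).toMonoidHom ≤
      Ocore t ⊓ centralizer ({a} : Set G) := by
    rintro _ ⟨x, hx, rfl⟩
    exact key x hx
  have heq := eq_of_le_of_card_ge hle (Nat.card_congr (equivMapOfInjective _ _ (MulAut.conj e).injective).toEquiv).le
  refine mem_normalizer_iff.2 fun x => ⟨key x, fun hx => ?_⟩
  obtain ⟨y, hy, e'⟩ := heq.ge hx
  simp only [MulEquiv.coe_toMonoidHom, MulAut.conj_apply] at e'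
  rwa [← mul_left_cancel (mul_right_cancel e')]

/-- `v` centralises `T = O_p(C(t)) ≠ 1` -/
structure Plus (t v : G) (p : ℕ) : Prop where
  hA : CaseA t
  deg : Degenerate t
  prime : p.Prime
  odd : p ≠ 2
  hv : orderOf v = 2
  hne : v ≠ t
  hc : Commute v t
  plus : ∀ x ∈ coreAt p t, Commute x v
  ne_bot : coreAt p t ≠ ⊥

namespace Plus

variable {t v : G} {p : ℕ} (hP : Plus t v p)
include hP

theorem symm : Plus t (t * v) p where
  hA := hP.hA
  deg := hP.deg
  prime := hP.prime
  odd := hP.odd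
  hv := CaseB.invol_mul hP.hA.invol hP.hv hP.hne.symm hP.hc.symm
  hne := fun e => Invol.invol_ne_one hP.hv (mul_eq_left.1 e)
  hc := (Commute.refl t).mul_left hP.hc
  plus := fun x hx => (commute_coreAt hx).mul_right (hP.plus x hx)
  ne_bot := hP.ne_bot

theorem commute_fix {R : Subgroup G} (hR : IsPGroup p R) (hRO : R ≤ Ocore t) (hvR : v ∈ normalizer (R : Set G))
    {o : G} (ho : o ∈ R) : Commute o v := by
  haveI := Fact.mk hP.prime
  exact commute_of_plus hP.deg hP.hv hP.hne hP.hc hP.plus hR hRO hvR ho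

/-- the part of a `p`-subgroup fixed by `t` is fixed by `v` -/
theorem fixed_part {R : Subgroup G} (hR : IsPGroup p R)
    (hvR : v ∈ normalizer (R : Set G)) {x : G} (hx : x ∈ R) (hxt : Commute x t) : Commute x v := by
  haveI := Fact.mk hP.prime
  refine hP.commute_fix (R := R ⊓ centralizer ({t} : Set G)) (hR.to_le inf_le_left) ?_ ?_
    ⟨hx, mem_centralizer_singleton_iff.2 hxt.eq⟩
  · exact fun y hy => mem_ocore hP.hA.min hP.hA.invol (mem_centralizer_singleton_iff.1 hy.2)
      (orderOf_odd hP.odd hR hy.1)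
  · exact CfsgLib.Coprime.inf_le_normalizer (A := zpowers v) (zpowers_le.2 hvR)
      (zpowers_le.2 (le_normalizer (mem_centralizer_singleton_iff.2 hP.hc.eq))) (mem_zpowers v)

/-- **`⟨t, v⟩` centralises every `p`-subgroup it normalises** -/
theorem four_centralises {R : Subgroup G} (hR : IsPGroup p R) (htR : t ∈ normalizer (R : Set G))
    (hvR : v ∈ normalizer (R : Set G)) {x : G} (hx : x ∈ R) : Commute x t ∧ Commute x v := by
  haveI := Fact.mk hP.prime
  have ht := hP.hA.invol
  obtain ⟨e, he⟩ := hP.hA.min.exists_cyc ht hP.hv hP.hne.symm hP.hc.symm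
  have he3 := he.third hP.hv hP.hc.symm
  have htvR : t * v ∈ normalizer (R : Set G) := mul_mem htR hvR
  have hnorm : ∀ (g a : G), a ∈ normalizer (R : Set G) →
      g * a * g⁻¹ ∈ normalizer (R.map (MulAut.conj g).toMonoidHom : Set G) := fun g a ha => by
    exact le_normalizer_map (MulAut.conj g).toMonoidHom ⟨a, ha, by simp⟩
  have hpull : ∀ (g a b : G), Commute (g * a * g⁻¹) b → Commute a (g⁻¹ * b * g) := fun g a b h => by
    have h' := h.map (MulAut.conj g⁻¹).toMonoidHom
    simpa [mul_assoc] using h'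
  suffices hle : R ≤ centralizer ({t} : Set G) from
    ⟨mem_centralizer_singleton_iff.1 (hle hx), hP.fixed_part hR hvR hx (mem_centralizer_singleton_iff.1 (hle hx))⟩
  refine CaseB.le_of_four ht hP.hv hP.hne.symm hP.hc.symm (CaseB.odd_card_of_pGroup hP.odd hR) htR hvR
    (fun y _ hy => mem_centralizer_singleton_iff.2 hy.eq) (fun y hy hyv => ?_) (fun y hy hyv => ?_)
  · -- conjugate by `e⁻¹`
    have e1 : e⁻¹ * (t * v) * e⁻¹⁻¹ ∈ normalizer (R.map (MulAut.conj e⁻¹).toMonoidHom : Set G) := hnorm _ _ htvR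
    have e2 : e⁻¹ * v * e⁻¹⁻¹ ∈ normalizer (R.map (MulAut.conj e⁻¹).toMonoidHom : Set G) := hnorm _ _ hvR
    have e3 : e⁻¹ * t * e⁻¹⁻¹ ∈ normalizer (R.map (MulAut.conj e⁻¹).toMonoidHom : Set G) := hnorm _ _ htR
    rw [inv_inv] at e1 e2 e3
    have ht' : e⁻¹ * v * e = t := by rw [← he.1]; group
    have htv' : e⁻¹ * t * e = t * v := by
      nth_rewrite 1 [← he3]
      group
    rw [ht'] at e2
    rw [htv'] at e3
    have hy' : Commute (e⁻¹ * y * e) t := by
      have h' := hyv.map (MulAut.conj e⁻¹).toMonoidHom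
      simp only [MulEquiv.coe_toMonoidHom, MulAut.conj_apply, inv_inv] at h'
      rwa [ht'] at h'
    have h4 := hP.symm.fixed_part (R := R.map (MulAut.conj e⁻¹).toMonoidHom) (hR.map _) e3
      (x := e⁻¹ * y * e) ⟨y, hy, by simp⟩ hy'
    have h5 := h4.map (MulAut.conj e).toMonoidHom
    simp only [MulEquiv.coe_toMonoidHom, MulAut.conj_apply] at h5
    rw [he3, show e * (e⁻¹ * y * e) * e⁻¹ = y by group] at h5
    exact mem_centralizer_singleton_iff.2 h5.eq
  · -- conjugate by `e`
    have e2 := hnorm e _ htR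
    have e3 := hnorm e _ htvR
    rw [he.1] at e2
    rw [he3] at e3
    have hy' : Commute (e * y * e⁻¹) t := by
      have h' := hyv.map (MulAut.conj e).toMonoidHom
      simp only [MulEquiv.coe_toMonoidHom, MulAut.conj_apply] at h'
      rwa [he3] at h'
    have h4 := hP.fixed_part (R := R.map (MulAut.conj e).toMonoidHom) (hR.map _) e2
      (x := e * y * e⁻¹) ⟨y, hy, rfl⟩ hy'
    have h5 := hpull e y v h4
    rw [show e⁻¹ * v * e = t by rw [← he.1]; group] at h5
    exact mem_centralizer_singleton_iff.2 h5.eq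

end Plus

end CfsgLib.GW.CaseA.Mixed
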