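import Cfsg.Agent.Lib.GW.CaseA.Mixed.Setup
import Cfsg.Agent.Lib.GW.CaseA.TypeCData
import Cfsg.Agent.Lib.GW.CaseCOne

/-!
# Case A, mixed signs: the centraliser of a subgroup fixed by `S`

If a nontrivial odd subgroup `A` is centralised by `S` and `T` and `t` is conjugate to `w` in `C(A)`, then
`C(A)` is `A7` modulo its odd core and `T` has order `3`.
-/

set_option autoImplicit false
set_option linter.style.haveILetI false
set_option linter.unusedSectionVars false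

open Subgroup
open scoped Pointwise
open CfsgLib.Coprime.BenderPair CfsgLib.Coprime.BenderUniqueness CfsgLib.Block.Dihedral
open CfsgLib.Coprime (IsSylowIn conjBy conjBy_eq_self_iff)

namespace CfsgLib.GW.CaseA.Mixed

universe u

variable {G : Type u} [Group G] [Finite G]

/-- an odd element of `A7` centralising an involution has cube one and one of three values -/
theorem alt_seven_odd_cent {s : alternatingGroup (Fin 7)} (hs : orderOf s = 2) :
    ∃ Z : Set (alternatingGroup (Fin 7)), Z.ncard ≤ 3 ∧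
      ∀ a, Commute a s → Odd (orderOf a) → a ^ 3 = 1 ∧ a ∈ Z := by
  obtain ⟨φ, hφ⟩ := exists_aut_altInvol hs
  set c : Equiv.Perm (Fin 7) := Equiv.swap 4 5 * Equiv.swap 5 6 with hc
  refine ⟨{a | (φ a : Equiv.Perm (Fin 7)) ∈ ({1, c, c ^ 2} : Set (Equiv.Perm (Fin 7)))}, ?_, fun a ha hao => ?_⟩
  · refine le_trans (Set.ncard_le_ncard_of_injOn (fun a => (φ a : Equiv.Perm (Fin 7))) (fun a ha => ha)
      (fun a _ b _ h => φ.injective (Subtype.ext h)) (Set.toFinite _)) ?_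
    refine le_trans (Set.ncard_insert_le _ _) ?_
    exact Nat.add_le_add_right (le_trans (Set.ncard_insert_le _ _) (by rw [Set.ncard_singleton])) 1
  · have h := odd_cent_altInvol (hφ ▸ ha.map φ.toMonoidHom : Commute (φ a) altInvol)
      (by rwa [MulEquiv.orderOf_eq])
    refine ⟨φ.injective (Subtype.ext ?_), ?_⟩
    · rw [map_pow, map_one, Subgroup.coe_pow, Subgroup.coe_one]
      rcases h with h | h | h <;> rw [h] <;> decide +kernel
    · show (φ a : Equiv.Perm (Fin 7)) ∈ ({1, c, c ^ 2} : Set (Equiv.Perm (Fin 7)))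
      rcases h with h | h | h <;> rw [h] <;> simp [hc]

namespace Setup

variable {t v : G} {p : ℕ} {P : Sylow 2 G} {σ : G} {R : Subgroup G} (X : Setup t v p P σ R)
include X

theorem vwv : v * (σ * v) * v⁻¹ = t * (σ * v) := by
  have h1 : v * (σ * v) * v⁻¹ = σ⁻¹ * v := by
    calc v * (σ * v) * v⁻¹ = v * σ * v⁻¹ * v := by group
      _ = σ⁻¹ * v := by rw [X.frame.rel]
  have h2 : σ ^ 2 * σ = σ⁻¹ := eq_inv_of_mul_eq_one_left (by
    rw [mul_assoc, ← sq, X.frame.sigma_h_sq])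
  rw [h1, ← X.hσ, ← mul_assoc, h2]

/-- `S` centralises what `v` and `w` centralise -/
theorem P_comm {x : G} (hv : Commute x v) (hw : Commute x (σ * v)) {g : G} (hg : g ∈ (P : Subgroup G)) :
    Commute g x := by
  have hs : Commute x σ := by
    have h := hw.mul_right hv
    rwa [mul_assoc, Invol.invol_mul_self X.plus.hv, mul_one] at h
  obtain ⟨l, rfl | rfl⟩ := X.frame.cases g hg
  · exact (hs.pow_right l).symm
  · exact (hv.mul_right (hs.pow_right l)).symm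

/-- fusion in a centraliser -/
theorem cent_fuse {A : Subgroup G} (hPA : (P : Subgroup G) ≤ centralizer (A : Set G)) {g : G}
    (hg : g ∈ normalizer (A : Set G)) :
    ∃ k ∈ centralizer (A : Set G), k * t * k⁻¹ = g * t * g⁻¹ := by
  haveI : Fact (Nat.Prime 2) := ⟨Nat.prime_two⟩
  set C := centralizer (A : Set G)
  have hgP : ((g • P : Sylow 2 G) : Subgroup G) ≤ C := by
    rw [Sylow.coe_subgroup_smul]
    rintro _ ⟨x, hx, rfl⟩
    exact (mem_normalizer_iff.1 (CfsgLib.Coprime.normalizer_le_normalizer_centralizer _ hg) x).1 (hPA hx)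
  obtain ⟨k, hk⟩ := MulAction.exists_smul_eq C (P.subtype hPA) ((g • P).subtype hgP)
  refine ⟨k, k.2, ?_⟩
  -- `n = k⁻¹ g` normalises `S`, whose centre has the one involution `t`
  set n := (k : G)⁻¹ * g with hn
  have hback : ∀ x ∈ (P : Subgroup G), n⁻¹ * x * n ∈ (P : Subgroup G) := by
    intro x hx
    have h1 : k * ⟨x, hPA hx⟩ * k⁻¹ ∈ ((g • P).subtype hgP : Subgroup C) := by
      rw [← hk, Sylow.coe_subgroup_smul]
      exact ⟨⟨x, hPA hx⟩, hx, rfl⟩
    have h2 : (k : G) * x * (k : G)⁻¹ ∈ ((g • P : Sylow 2 G) : Subgroup G) := h1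
    rw [Sylow.coe_subgroup_smul] at h2
    obtain ⟨y, hy, e⟩ := h2
    have e' : g * y * g⁻¹ = (k : G) * x * (k : G)⁻¹ := e
    rwa [show n⁻¹ * x * n = y by
      calc n⁻¹ * x * n = g⁻¹ * ((k : G) * x * (k : G)⁻¹) * g := by rw [hn]; group
        _ = y := by rw [← e']; group]
  have hnP : n * t * n⁻¹ ∈ (P : Subgroup G) := by
    have hmap : (P : Subgroup G).map (MulAut.conj n⁻¹).toMonoidHom = (P : Subgroup G) := by
      refine eq_of_le_of_card_ge ?_ (Nat.card_congr (equivMapOfInjective _ _ (MulAut.conj n⁻¹).injective).toEquiv).le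
      rintro _ ⟨x, hx, rfl⟩
      simpa using hback x hx
    have htP : t ∈ (P : Subgroup G).map (MulAut.conj n⁻¹).toMonoidHom :=
      hmap.symm ▸ (X.hσ ▸ pow_mem X.frame.memσ 2)
    obtain ⟨y, hy, hy'⟩ := htP
    have hy'' : n⁻¹ * y * n = t := by simpa using hy'
    rwa [show n * t * n⁻¹ = y by rw [← hy'']; group]
  have hcσ : Commute (n * t * n⁻¹) σ := by
    have h := ((X.comm_t (hback σ X.frame.memσ)).symm).map (MulAut.conj n).toMonoidHom
    simpa [mul_assoc] using h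
  have hno : orderOf (n * t * n⁻¹) = 2 := by rw [← MulAut.conj_apply, MulEquiv.orderOf_eq, X.ht]
  have hzp : n * t * n⁻¹ ∈ zpowers σ := X.frame.mem_zpowers_of_commute (l := 1) hnP (by decide)
    (by rwa [pow_one])
  obtain ⟨m, hm⟩ := (isOfFinOrder_of_finite σ).mem_powers_iff_mem_zpowers.2 hzp
  simp only at hm
  have h2m : 2 ∣ m := by
    by_contra h
    exact (X.frame.sq_ne_iff m).2 h (by rw [hm]; exact Invol.invol_mul_self hno)
  have heq : n * t * n⁻¹ = t := by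
    rw [← hm, X.frame.eq_J (by rw [hm]; exact Invol.invol_ne_one hno) h2m, X.hσ]
  calc (k : G) * t * (k : G)⁻¹ = (k : G) * (n * t * n⁻¹) * (k : G)⁻¹ := by rw [heq]
    _ = g * t * g⁻¹ := by rw [hn]; group

/-- a Sylow `q`-subgroup of `C_O(w)` centralised by `v` -/
theorem exists_fix_sylow {q : ℕ} [Fact q.Prime]
    (hinv : ∀ x ∈ coreAt q t, (σ * v) * x * (σ * v)⁻¹ = x⁻¹) :
    ∃ U : Subgroup G, IsSylowIn q U (Ocore t ⊓ centralizer ({σ * v} : Set G)) ∧ ∀ x ∈ U, Commute x v := by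
  set D := Ocore t ⊓ centralizer ({σ * v} : Set G) with hD
  have hvD : zpowers v ≤ normalizer (D : Set G) := zpowers_le.2 (mem_normalizer_iff.2 fun x => by
    have key : ∀ y ∈ D, v * y * v⁻¹ ∈ D := fun y hy => by
      obtain ⟨hyO, hyw⟩ := mem_inf.1 hy
      refine mem_inf.2 ⟨(mem_normalizer_iff.1 (centralizer_le_normalizer_ocore t
        (mem_centralizer_singleton_iff.2 X.plus.hc.eq)) y).1 hyO, mem_centralizer_singleton_iff.2 ?_⟩
      have hyt : Commute y t := mem_centralizer_singleton_iff.1 (ocore_le t hyO)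
      have h := (hyt.mul_right (mem_centralizer_singleton_iff.1 hyw)).map (MulAut.conj v).toMonoidHom
      simp only [MulEquiv.coe_toMonoidHom, MulAut.conj_apply] at h
      rw [show v * (t * (σ * v)) * v⁻¹ = σ * v by
        calc v * (t * (σ * v)) * v⁻¹ = (v * t * v⁻¹) * (v * (σ * v) * v⁻¹) := by group
          _ = σ * v := by
            rw [X.vwv, X.plus.hc.eq, mul_inv_cancel_right, ← mul_assoc, Invol.invol_mul_self X.ht, one_mul]] at h
      exact h.eq
    refine ⟨key x, fun hx => ?_⟩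
    have h := key _ hx
    rwa [show v * (v * x * v⁻¹) * v⁻¹ = (v * v) * x * (v * v)⁻¹ by group, Invol.invol_mul_self X.plus.hv,
      one_mul, inv_one, mul_one] at h)
  obtain ⟨U, hU, hUv⟩ := CfsgLib.Coprime.exists_invariant_sylow hvD
    (by
      rw [Nat.card_zpowers, X.plus.hv]
      exact Nat.coprime_two_left.2 ((odd_ocore t).of_dvd_nat (card_dvd_of_le inf_le_left)))
    (Or.inl (CfsgLib.Coprime.isSolvable_of_isMulCommutative inferInstance)) q
  refine ⟨U, hU, fun x hx => CaseB.commute_of_cmt_eq_one ?_⟩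
  have hvU : v ∈ normalizer (U : Set G) := hUv (mem_zpowers v)
  have hc : x * v * x⁻¹ * v⁻¹ ∈ coreAt q t :=
    cmt_mem_core X.plus.deg X.plus.hv X.plus.hne X.plus.hc hU.isPGroup (hU.1.trans inf_le_left) hvU hx
  have hmem : x * v * x⁻¹ * v⁻¹ ∈ D := hU.1 (CaseB.commutator_mem hvU hx)
  exact CaseB.eq_one_of_inv_fix (hinv _ hc) (mem_centralizer_singleton_iff.1 (mem_inf.1 hmem).2).symm
    (CaseB.orderOf_odd_of_mem (odd_ocore t) (mem_inf.1 hmem).1)

theorem step (A : Subgroup G) (hA1 : A ≠ ⊥) (hAv : ∀ a ∈ A, Commute a v)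
    (hAw : ∀ a ∈ A, Commute a (σ * v)) (hAT : ∀ a ∈ A, ∀ y ∈ coreAt p t, Commute a y)
    (hk : ∃ k : G, (∀ a ∈ A, Commute k a) ∧ k * t * k⁻¹ = σ * v) :
    p = 3 ∧ Nat.card (coreAt p t) = 3 ∧ ∃ k : G, (∀ a ∈ A, Commute k a) ∧ k * t * k⁻¹ = v := by
  classical
  haveI := Fact.mk X.plus.prime
  haveI : Fact (Nat.Prime 2) := ⟨Nat.prime_two⟩
  have ht := X.ht
  have hG := X.hG
  have hv := X.plus.hv
  have htv : Commute t v := X.plus.hc.symm
  set H := centralizer (A : Set G) with hH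
  have hmemH : ∀ g : G, (∀ a ∈ A, Commute g a) → g ∈ H := fun g hg =>
    mem_centralizer_iff.2 fun a ha => (hg a ha).eq.symm
  have hHmem : ∀ g ∈ H, ∀ a ∈ A, Commute g a := fun g hg a ha => (mem_centralizer_iff.1 hg a ha).symm
  have hPH : (P : Subgroup G) ≤ H := fun g hg => hmemH g fun a ha => X.P_comm (hAv a ha) (hAw a ha) hg
  have htH : t ∈ H := hPH (X.hσ ▸ pow_mem X.frame.memσ 2)
  have hvH : v ∈ H := hPH X.frame.memτ
  have hwH : σ * v ∈ H := hPH X.w_mem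
  have hTH : coreAt p t ≤ H := fun y hy => hmemH y fun a ha => (hAT a ha y hy).symm
  have hne : H ≠ ⊤ := fun h => hA1 (le_bot_iff.1 (hG.center_eq_bot ▸ fun a ha =>
    mem_center_iff.2 fun g => hHmem g (h.ge (mem_top g)) a ha))
  obtain ⟨k, hkA, hkt⟩ := hk
  have hkH : k ∈ H := hmemH k hkA
  set π := QuotientGroup.mk' (Cfsg.oddCore H) with hπ
  have hto := orderOf_mk_two htH ht
  have hvo := orderOf_mk_two hvH hv
  have hwo := orderOf_mk_two hwH X.w_invol
  -- `H` is not of type two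
  have hC : IsTypeC H := by
    refine (hG.proper_cases hne).resolve_left fun h2 => ?_
    obtain ⟨n, hn⟩ := h2
    have hQ : IsPGroup 2 (H ⧸ Cfsg.oddCore H) := IsPGroup.of_card (n := n) (by rw [← index_eq_card, hn])
    have hsurj : ((P.subtype hPH).mapSurjective (QuotientGroup.mk'_surjective (Cfsg.oddCore H)) :
        Subgroup (H ⧸ Cfsg.oddCore H)) = ⊤ :=
      (((P.subtype hPH).mapSurjective (QuotientGroup.mk'_surjective (Cfsg.oddCore H))).3
        (hQ.to_subgroup ⊤) le_top).symm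
    have hcen : π ⟨k, hkH⟩ * π ⟨t, htH⟩ = π ⟨t, htH⟩ * π ⟨k, hkH⟩ := by
      obtain ⟨s, hs, hsk⟩ : π ⟨k, hkH⟩ ∈
          ((P.subtype hPH).mapSurjective (QuotientGroup.mk'_surjective (Cfsg.oddCore H)) :
            Subgroup (H ⧸ Cfsg.oddCore H)) := hsurj.symm ▸ mem_top _
      rw [← hsk]
      exact ((show Commute s (⟨t, htH⟩ : H) from Subtype.ext (X.comm_t hs).eq).map π).eq
    have hwt : π ⟨σ * v, hwH⟩ = π ⟨t, htH⟩ := by
      rw [show (⟨σ * v, hwH⟩ : H) = ⟨k, hkH⟩ * ⟨t, htH⟩ * (⟨k, hkH⟩ : H)⁻¹ from Subtype.ext hkt.symm,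
        map_mul, map_mul, map_inv, hcen, mul_inv_cancel_right]
    have hmem : (⟨t, htH⟩ : H)⁻¹ * ⟨σ * v, hwH⟩ ∈ Cfsg.oddCore H := QuotientGroup.eq.1 hwt.symm
    have hodd := (odd_oddCore H).of_dvd_nat (Subgroup.orderOf_dvd_natCard _ hmem)
    rw [← Subgroup.orderOf_coe] at hodd
    simp only [coe_mul, InvMemClass.coe_inv, Invol.invol_inv ht] at hodd
    rw [CaseB.invol_mul ht X.w_invol X.w_ne.symm X.w_comm.symm] at hodd
    exact absurd hodd (by decide)
  have hX : DihTwo (H ⧸ Cfsg.oddCore H) := dihTwo_mod_core hG ht hv X.plus.hne.symm htv htH hvH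
  -- images of `T`
  have himg : ∀ y (hy : y ∈ coreAt p t), Commute (π ⟨y, hTH hy⟩) (π ⟨t, htH⟩) ∧
      Commute (π ⟨y, hTH hy⟩) (π ⟨v, hvH⟩) ∧
      π ⟨σ * v, hwH⟩ * π ⟨y, hTH hy⟩ * (π ⟨σ * v, hwH⟩)⁻¹ = (π ⟨y, hTH hy⟩)⁻¹ ∧
      Odd (orderOf (π ⟨y, hTH hy⟩)) := fun y hy =>
    ⟨(show Commute (⟨y, hTH hy⟩ : H) ⟨t, htH⟩ from Subtype.ext (commute_coreAt hy).eq).map π,
      (show Commute (⟨y, hTH hy⟩ : H) ⟨v, hvH⟩ from Subtype.ext (X.plus.plus y hy).eq).map π,
      by rw [← map_inv, ← map_inv, ← map_mul, ← map_mul]; exact congrArg π (Subtype.ext (X.w_inverts hy)),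
      orderOf_mk_odd _ (orderOf_odd X.plus.odd (isPGroup_coreAt p t) hy)⟩
  -- nothing of `T` lies in `O(H)`
  have hJ : ∀ y ∈ coreAt p t, y ∈ CaseB.ocN H → y = 1 := by
    intro y hy hyK
    set J := coreAt p t ⊓ CaseB.ocN H with hJdef
    have hPK : (P : Subgroup G) ≤ normalizer (CaseB.ocN H : Set G) := hPH.trans (CaseB.le_normalizer_ocN H)
    obtain ⟨U, hU, hJU, hPU⟩ := CfsgLib.Coprime.le_invariant_sylow (p := p) hPK
      (by
        obtain ⟨i, hi⟩ := P.2.exists_card_eq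
        rw [hi]
        exact Nat.Coprime.pow_left i (Nat.coprime_two_left.2 (CaseB.odd_ocN H)))
      (Or.inl (by haveI := P.2.isNilpotent; infer_instance))
      (U := J) inf_le_right ((isPGroup_coreAt p t).to_le inf_le_left)
      (CfsgLib.Coprime.inf_le_normalizer (fun g hg => mem_normalizer_coreAt (X.comm_t hg)) hPK)
    have hkU : IsSylowIn p (conjBy k U) (CaseB.ocN H) := hU.conjBy (CaseB.le_normalizer_ocN H hkH)
    have hwk : zpowers (σ * v) ≤ normalizer (conjBy k U : Set G) := zpowers_le.2 (by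
      rw [← hkt, ← conjBy_eq_self_iff, CfsgLib.Coprime.conjBy_conjBy, show k * t * k⁻¹ * k = k * t by group,
        ← CfsgLib.Coprime.conjBy_conjBy, conjBy_eq_self_iff.2 (hPU (X.hσ ▸ pow_mem X.frame.memσ 2))])
    obtain ⟨c, hc, hcU⟩ := CfsgLib.Coprime.invariant_sylow_conj (p := p) (A := zpowers (σ * v))
      (zpowers_le.2 (hPK X.w_mem))
      (by rw [Nat.card_zpowers, X.w_invol]; exact Nat.coprime_two_left.2 (CaseB.odd_ocN H))
      (Or.inl (CfsgLib.Coprime.isSolvable_of_isMulCommutative inferInstance))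
      hkU hU hwk (zpowers_le.2 (hPU X.w_mem))
    rw [CfsgLib.Coprime.conjBy_conjBy, conjBy_eq_self_iff] at hcU
    have hyU : y ∈ U := hJU ⟨hy, hyK⟩
    have h1 := (X.plus.four_centralises hU.isPGroup (hPU (X.hσ ▸ pow_mem X.frame.memσ 2))
      (hPU X.frame.memτ) ((mem_normalizer_iff''.1 hcU y).1 hyU)).1
    have hcw : Commute c (σ * v) :=
      (mem_centralizer_iff.1 (mem_inf.1 hc).2 _ (mem_zpowers _)).symm
    have h2 : Commute y (σ * v) := by
      have h := h1.map (MulAut.conj (c * k)).toMonoidHom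
      simp only [MulEquiv.coe_toMonoidHom, MulAut.conj_apply] at h
      rw [show c * k * ((c * k)⁻¹ * y * (c * k)) * (c * k)⁻¹ = y by group,
        show c * k * t * (c * k)⁻¹ = c * (k * t * k⁻¹) * c⁻¹ by group, hkt, hcw.eq, mul_inv_cancel_right] at h
      exact h
    exact CaseB.eq_one_of_inv_fix (X.w_inverts hy) h2.symm (orderOf_odd X.plus.odd (isPGroup_coreAt p t) hy)
  have hinj : ∀ y (hy : y ∈ coreAt p t), π ⟨y, hTH hy⟩ = 1 → y = 1 := fun y hy h =>
    hJ y hy ⟨⟨y, hTH hy⟩, (QuotientGroup.eq_one_iff _).1 h, rfl⟩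
  obtain ⟨y₀, hy₀, hy₀1⟩ : ∃ y ∈ coreAt p t, y ≠ 1 := by
    by_contra! h
    exact X.plus.ne_bot ((eq_bot_iff_forall _).2 h)
  have hntv : π ⟨t, htH⟩ ≠ π ⟨v, hvH⟩ := fun h => by
    have hmem : (⟨t, htH⟩ : H)⁻¹ * ⟨v, hvH⟩ ∈ Cfsg.oddCore H := QuotientGroup.eq.1 h
    have hodd := (odd_oddCore H).of_dvd_nat (Subgroup.orderOf_dvd_natCard _ hmem)
    rw [← Subgroup.orderOf_coe] at hodd
    simp only [coe_mul, InvMemClass.coe_inv, Invol.invol_inv ht] at hodd
    rw [CaseB.invol_mul ht hv X.plus.hne.symm htv] at hodd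
    exact absurd hodd (by decide)
  rcases typeC_cases hC with h4 | ⟨M, hMn, -, hCM, hM7⟩
  · exact absurd (hinj y₀ hy₀ (four_type_cent_invol h4 hvo (himg y₀ hy₀).2.2.2 (himg y₀ hy₀).2.1)) hy₀1
  haveI := hMn
  rcases hM7 with ⟨F, iF, jF, ho, h3, ⟨e⟩⟩ | ⟨⟨e⟩⟩
  · exfalso
    have h2 : (2 : F) ≠ 0 := CfsgLib.Perm.Dickson.two_ne_zero_of_odd (F := F) (by rwa [Nat.card_eq_fintype_card])
    obtain ⟨hyt, hyv, hyw, hyo⟩ := himg y₀ hy₀
    set y := π ⟨y₀, hTH hy₀⟩ with hy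
    have hwD := two_mem_diagPart M e hX hCM h2 (k := 1) (by rw [hwo]; norm_num)
    have hsq : y ^ 2 ∈ diagPart M e := by
      have h : y⁻¹ * π ⟨σ * v, hwH⟩ * y⁻¹⁻¹ * (π ⟨σ * v, hwH⟩)⁻¹ ∈ diagPart M e :=
        mul_mem ((diagPart_normal M e).conj_mem _ hwD _) (inv_mem hwD)
      rw [inv_inv, show y⁻¹ * π ⟨σ * v, hwH⟩ * y * (π ⟨σ * v, hwH⟩)⁻¹ =
        y⁻¹ * (π ⟨σ * v, hwH⟩ * y * (π ⟨σ * v, hwH⟩)⁻¹) by group, hyw] at h
      rw [sq, ← inv_mem_iff, mul_inv_rev]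
      exact h
    refine hy₀1 (hinj y₀ hy₀ ?_)
    rcases diag_cent_four M e hX hCM h2 hto hvo hntv
      ((show Commute (⟨t, htH⟩ : H) ⟨v, hvH⟩ from Subtype.ext htv.eq).map π)
      (mem_of_sq_mem hyo hsq) hyt hyv with h | h | h | h
    · exact h
    all_goals exfalso; rw [h] at hyo
    · exact absurd (hto ▸ hyo) (by decide)
    · exact absurd (hvo ▸ hyo) (by decide)
    · exact absurd (invol_mul_of_commute hto hvo hntv
        ((show Commute (⟨t, htH⟩ : H) ⟨v, hvH⟩ from Subtype.ext htv.eq).map π) ▸ hyo) (by decide)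
  -- `A7`
  have hMtop := eq_top_of_alt7 hX M e hCM
  let f : H →* alternatingGroup (Fin 7) :=
    e.toMonoidHom.comp (π.codRestrict M fun x => hMtop.symm ▸ mem_top _)
  have hf : ∀ x : H, f x = 1 → π x = 1 := fun x h => congrArg Subtype.val ((MulEquiv.map_eq_one_iff e).1 h)
  have hfo : ∀ (u : G) (huH : u ∈ H), orderOf u = 2 → orderOf (f ⟨u, huH⟩) = 2 := fun u huH hu => by
    show orderOf (e ⟨π ⟨u, huH⟩, _⟩) = 2
    rw [MulEquiv.orderOf_eq, Subgroup.orderOf_mk]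
    exact orderOf_mk_two huH hu
  obtain ⟨Z, hZ, hZm⟩ := alt_seven_odd_cent (hfo t htH ht)
  have hcube : ∀ y (hy : y ∈ coreAt p t), f ⟨y, hTH hy⟩ ^ 3 = 1 ∧ f ⟨y, hTH hy⟩ ∈ Z := fun y hy =>
    hZm _ ((show Commute (⟨y, hTH hy⟩ : H) ⟨t, htH⟩ from Subtype.ext (commute_coreAt hy).eq).map f)
      ((orderOf_odd X.plus.odd (isPGroup_coreAt p t) hy).of_dvd_nat ((orderOf_map_dvd f _).trans
        (by rw [Subgroup.orderOf_mk])))
  have h3 : ∀ y ∈ coreAt p t, y ^ 3 = 1 := fun y hy => hinj _ (pow_mem hy 3) (hf _ (by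
    rw [show (⟨y ^ 3, hTH (pow_mem hy 3)⟩ : H) = ⟨y, hTH hy⟩ ^ 3 from rfl, map_pow, (hcube y hy).1]))
  have hy₀o : orderOf y₀ = 3 := by
    haveI : Fact (Nat.Prime 3) := ⟨Nat.prime_three⟩
    exact orderOf_eq_prime (h3 y₀ hy₀) hy₀1
  have hp3 : p = 3 := by
    obtain ⟨i, hi⟩ := IsPGroup.iff_orderOf.1 (isPGroup_coreAt p t) ⟨y₀, hy₀⟩
    rw [Subgroup.orderOf_mk, hy₀o] at hi
    have h : p ∣ 3 := by
      rw [hi]
      refine dvd_pow_self p fun h0 => ?_
      rw [h0, pow_zero] at hi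
      exact absurd hi (by norm_num)
    exact (Nat.prime_dvd_prime_iff_eq X.plus.prime Nat.prime_three).1 h
  refine ⟨hp3, ?_, ?_⟩
  · have hle : Nat.card (coreAt p t) ≤ 3 := by
      refine le_trans ?_ hZ
      rw [← Nat.card_coe_set_eq]
      refine Nat.card_le_card_of_injective (fun y => (⟨_, (hcube y.1 y.2).2⟩ : Z)) fun a b hab => Subtype.ext ?_
      have hab' : f ⟨a.1, hTH a.2⟩ = f ⟨b.1, hTH b.2⟩ := congrArg Subtype.val hab
      have h := hinj _ (mul_mem (inv_mem a.2) b.2) (hf _ (by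
        rw [show (⟨(a.1)⁻¹ * b.1, hTH (mul_mem (inv_mem a.2) b.2)⟩ : H) = (⟨a.1, hTH a.2⟩)⁻¹ * ⟨b.1, hTH b.2⟩ from rfl,
          map_mul, map_inv, hab', inv_mul_cancel]))
      exact inv_mul_eq_one.1 h
    refine le_antisymm hle ?_
    obtain ⟨i, hi⟩ := (isPGroup_coreAt p t).exists_card_eq
    have hd := Subgroup.orderOf_dvd_natCard _ hy₀
    rw [hy₀o] at hd
    exact Nat.le_of_dvd Nat.card_pos hd
  · obtain ⟨g, hg⟩ := isConj_iff.1 (alt_seven_one_class (hfo t htH ht) (hfo v hvH hv))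
    obtain ⟨h, -, hh⟩ := exists_conj_lift (odd_oddCore H) (u := (⟨t, htH⟩ : H)) (v := ⟨v, hvH⟩)
      (x := ((e.symm g : M) : H ⧸ Cfsg.oddCore H))
      (by rw [Subgroup.orderOf_mk, ht]) (by rw [Subgroup.orderOf_mk, hv]) (by
        have h' := congrArg (fun z => ((e.symm z : M) : H ⧸ Cfsg.oddCore H)) hg
        simp only [map_mul, map_inv, coe_mul, InvMemClass.coe_inv] at h'
        simpa [f, hπ] using h')
    exact ⟨h, hHmem h h.2, congrArg Subtype.val hh⟩

/-- the first pass: `p = 3` and `|T| = 3` -/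
theorem prime_eq_three : p = 3 ∧ Nat.card (coreAt p t) = 3 := by
  haveI := Fact.mk X.plus.prime
  obtain ⟨e, he⟩ := X.hG.exists_cyc X.ht X.plus.hv X.plus.hne.symm X.plus.hc.symm
  have hne : coreAt p v ≠ ⊥ := fun h => X.plus.ne_bot (by
    rw [← he.1, coreAt_conj] at h
    exact (map_eq_bot_iff_of_injective _ (MulAut.conj e).injective).1 h)
  haveI : Nontrivial (coreAt p v) := (Subgroup.nontrivial_iff_ne_bot _).2 hne
  obtain ⟨i, hi⟩ := (isPGroup_coreAt p v).exists_card_eq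
  have hi0 : i ≠ 0 := fun h0 => by
    have := Finite.one_lt_card (α := coreAt p v)
    rw [hi, h0, pow_zero] at this
    omega
  obtain ⟨⟨x, hx⟩, hxo⟩ := exists_prime_orderOf_dvd_card' (G := coreAt p v) p (by rw [hi]; exact dvd_pow_self p hi0)
  rw [Subgroup.orderOf_mk] at hxo
  obtain ⟨f, c, -, -, -, -, hco, hcR, hcv, hcw, hcT, -⟩ :=
    X.split hx (fun h => by rw [h, orderOf_one] at hxo; exact X.plus.prime.ne_one hxo.symm) (hxo ▸ pow_orderOf_eq_one x)
  set Dw := Ocore t ⊓ centralizer ({σ * v} : Set G) with hDw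
  obtain ⟨U, hU, hUv⟩ := X.exists_fix_sylow (fun y hy => X.w_inverts hy) (q := p)
  set D := Dw ⊓ centralizer ({v} : Set G) with hD
  have hUD : IsSylowIn p U D :=
    isSylowIn_of_le hU (le_inf hU.1 fun y hy => mem_centralizer_singleton_iff.2 (hUv y hy).eq) inf_le_left
  have hcD : c ∈ D := mem_inf.2 ⟨mem_inf.2 ⟨X.sylow.1 hcR, mem_centralizer_singleton_iff.2 hcw.eq⟩,
    mem_centralizer_singleton_iff.2 hcv.eq⟩
  obtain ⟨Q, hQ⟩ := (IsPGroup.of_card (n := 1) (by rw [Nat.card_zpowers, Subgroup.orderOf_mk, hco, pow_one]) :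
    IsPGroup p (zpowers (⟨c, hcD⟩ : D))).exists_le_sylow
  have hVD := CfsgLib.Coprime.isSylowIn_map Q
  set W := (Q : Subgroup D).map D.subtype
  have hcW : c ∈ W := ⟨⟨c, hcD⟩, hQ (mem_zpowers _), rfl⟩
  have hW : IsSylowIn p W Dw := ⟨hVD.1.trans inf_le_left, hVD.2.trans (hUD.2.symm.trans hU.2)⟩
  have hPW : (P : Subgroup G) ≤ centralizer (W : Set G) := fun g hg => mem_centralizer_iff.2 fun y hy =>
    (X.P_comm (mem_centralizer_singleton_iff.1 (mem_inf.1 (hVD.1 hy)).2)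
      (mem_centralizer_singleton_iff.1 (mem_inf.1 (mem_inf.1 (hVD.1 hy)).1).2) hg).eq.symm
  obtain ⟨e', he'⟩ := X.hG.exists_cyc X.ht X.w_invol X.w_ne.symm X.w_comm.symm
  obtain ⟨d, hd, hde⟩ := hW.exists_conj (hW.conjBy (conj_mem_fix X.hG X.ht X.w_invol X.w_comm.symm he'))
  have hg : d⁻¹ * e' ∈ normalizer (W : Set G) := by
    rw [← conjBy_eq_self_iff, ← CfsgLib.Coprime.conjBy_conjBy, ← hde, CfsgLib.Coprime.conjBy_conjBy,
      inv_mul_cancel, CfsgLib.Coprime.conjBy_one]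
  obtain ⟨k, hk, hkt⟩ := X.cent_fuse hPW hg
  have hdt : Cyc (d⁻¹ * e') t (σ * v) :=
    he'.of_left (mem_centralizer_singleton_iff.1 (ocore_le t (inv_mem (mem_inf.1 hd).1)))
      (mem_centralizer_singleton_iff.1 (mem_inf.1 (inv_mem hd)).2)
  rw [hdt.1] at hkt
  have hcA : ∀ {a : G} {g : G}, a ∈ zpowers c → Commute g c → Commute g a := fun {a g} ha h => by
    obtain ⟨n, rfl⟩ := mem_zpowers_iff.1 ha
    exact h.zpow_right n
  obtain ⟨h1, h2, -⟩ := X.step (zpowers c)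
    (zpowers_eq_bot.not.2 fun h => by rw [h, orderOf_one] at hco; exact X.plus.prime.ne_one hco.symm)
    (fun a ha => (hcA ha hcv.symm).symm)
    (fun a ha => (hcA ha hcw.symm).symm) (fun a ha y hy => (hcA ha (hcT y hy).symm).symm)
    ⟨k, fun a ha => hcA ha (mem_centralizer_iff.1 hk c hcW).symm, hkt⟩
  exact ⟨h1, h2⟩

end Setup

end CfsgLib.GW.CaseA.Mixed
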